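import Mathlib

/-!
Root elements `x ↦ x + f(x,p) v + (f(x,v) + c f(x,p)) p` of a symplectic space in characteristic two, and
subgroups containing one such element for every `v` perpendicular to `p`.
-/

set_option autoImplicit false
set_option linter.unusedSectionVars false

namespace Cfsg.Agent.Block.SpRootX

open Matrix

variable {F : Type*} [Field F] [CharP F 2] {ι : Type} [Fintype ι] [DecidableEq ι]
  (B : LinearMap.BilinForm F (ι → F))

/-- The root element attached to `p`, `v` and `c`. -/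
def sg (p v : ι → F) (c : F) (x : ι → F) : ι → F :=
  x + B x p • v + (B x v + c * B x p) • p

theorem sg_smul_point (l : F) (p v : ι → F) (c : F) (x : ι → F) :
    sg B (l • p) v c x = sg B p (l • v) (l * l * c) x := by
  simp only [sg, map_smul, smul_eq_mul, smul_smul]
  match_scalars <;> ring

variable {B}

theorem B_swap (halt : ∀ x, B x x = 0) (x y : ι → F) : B x y = B y x := by
  have h := halt (x + y)
  simp only [map_add, LinearMap.add_apply, halt, zero_add, add_zero] at h
  linear_combination h - B y x * CharTwo.two_eq_zero (R := F)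

theorem sg_shift {p v : ι → F} (c e : F) (x : ι → F) : sg B p (v + e • p) c x = sg B p v c x := by
  simp only [sg, map_add, map_smul, smul_eq_mul]
  match_scalars <;> grind

theorem sg_zero (p x : ι → F) (c : F) : sg B p 0 c x = x + (c * B x p) • p := by
  simp [sg]

theorem sg_fix {p v x : ι → F} {c : F} (hp : B x p = 0) (hv : B x v = 0) : sg B p v c x = x := by
  simp [sg, hp, hv]

theorem sg_self (halt : ∀ x, B x x = 0) {p v : ι → F} (hv : B v p = 0) (c : F) : sg B p v c p = p :=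
  sg_fix (halt p) (by rw [B_swap halt]; exact hv)

theorem sg_comp (halt : ∀ x, B x x = 0) {p v w : ι → F} (hv : B v p = 0) (hw : B w p = 0) (c d : F)
    (x : ι → F) : sg B p v c (sg B p w d x) = sg B p (v + w) (c + d + B w v) x := by
  have hpv : B p v = 0 := by rw [B_swap halt]; exact hv
  simp only [sg, map_add, map_smul, LinearMap.add_apply, LinearMap.smul_apply, smul_eq_mul, hw, hpv, halt,
    mul_zero, add_zero, zero_add]
  match_scalars <;> ring

/-- `L` contains a root element. -/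
def InL (B : LinearMap.BilinForm F (ι → F)) (L : Subgroup (GL ι F)) (p v : ι → F) (c : F) : Prop :=
  ∃ g ∈ L, ∀ x : ι → F, (g : Matrix ι ι F) *ᵥ x = sg B p v c x

variable {L : Subgroup (GL ι F)} {p v w : ι → F} {c d : F}

theorem InL.mul (halt : ∀ x, B x x = 0) (hv : B v p = 0) (hw : B w p = 0) (h : InL B L p v c)
    (h' : InL B L p w d) : InL B L p (v + w) (c + d + B w v) := by
  obtain ⟨g, hg, hgx⟩ := h
  obtain ⟨k, hk, hkx⟩ := h'
  exact ⟨g * k, mul_mem hg hk, fun x => by
    rw [Units.val_mul, ← Matrix.mulVec_mulVec, hkx, hgx, sg_comp halt hv hw]⟩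

theorem InL.zero (p : ι → F) : InL B L p 0 0 := ⟨1, one_mem L, fun x => by simp [sg]⟩

theorem InL.diff (halt : ∀ x, B x x = 0) (hv : B v p = 0) (h : InL B L p v c) (h' : InL B L p v d) :
    InL B L p 0 (c + d) := by
  have := h.mul halt hv hv h'
  rwa [halt, add_zero, show v + v = 0 from funext fun i => CharTwo.add_self_eq_zero _] at this

theorem InL.shift (e : F) : InL B L p (v + e • p) c ↔ InL B L p v c := by
  simp only [InL, sg_shift]

theorem InL.smul_point (l : F) (h : InL B L (l • p) v c) : InL B L p (l • v) (l * l * c) := by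
  obtain ⟨g, hg, hgx⟩ := h
  exact ⟨g, hg, fun x => by rw [hgx, sg_smul_point]⟩

theorem InL.smul_point' {l : F} (hl : l ≠ 0) (h : InL B L p v c) :
    InL B L (l • p) (l⁻¹ • v) (c / (l * l)) := by
  obtain ⟨g, hg, hgx⟩ := h
  refine ⟨g, hg, fun x => ?_⟩
  rw [hgx, sg_smul_point, smul_smul, mul_inv_cancel₀ hl, one_smul]
  congr 1
  field_simp

theorem InL.conj (hiso : ∀ g ∈ L, ∀ x y, B ((g : Matrix ι ι F) *ᵥ x) ((g : Matrix ι ι F) *ᵥ y) = B x y)
    {g : GL ι F} (hg : g ∈ L) (h : InL B L p v c) :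
    InL B L ((g : Matrix ι ι F) *ᵥ p) ((g : Matrix ι ι F) *ᵥ v) c := by
  obtain ⟨k, hk, hkx⟩ := h
  refine ⟨g * k * g⁻¹, mul_mem (mul_mem hg hk) (inv_mem hg), fun x => ?_⟩
  obtain ⟨y, rfl⟩ : ∃ y, x = (g : Matrix ι ι F) *ᵥ y :=
    ⟨((g⁻¹ : GL ι F) : Matrix ι ι F) *ᵥ x, by
      rw [Matrix.mulVec_mulVec, ← Units.val_mul, mul_inv_cancel, Units.val_one, Matrix.one_mulVec]⟩
  rw [Units.val_mul, Units.val_mul, ← Matrix.mulVec_mulVec, ← Matrix.mulVec_mulVec,
    Matrix.mulVec_mulVec y ((g⁻¹ : GL ι F) : Matrix ι ι F), ← Units.val_mul, inv_mul_cancel, Units.val_one,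
    Matrix.one_mulVec, hkx]
  simp only [sg, hiso g hg, Matrix.mulVec_add, Matrix.mulVec_smul]

/-- The standing hypotheses: `L` is an irreducible group of isometries containing, for every `v`
perpendicular to `a`, a root element with parameter `φ v`. -/
structure Hyp (B : LinearMap.BilinForm F (ι → F)) (L : Subgroup (GL ι F)) (a : ι → F) (φ : (ι → F) → F) :
    Prop where
  alt : ∀ x, B x x = 0
  nd : ∀ x, (∀ y, B x y = 0) → x = 0
  iso : ∀ g ∈ L, ∀ x y, B ((g : Matrix ι ι F) *ᵥ x) ((g : Matrix ι ι F) *ᵥ y) = B x y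
  irr : ∀ W : Submodule F (ι → F), (∀ g ∈ L, ∀ w ∈ W, (g : Matrix ι ι F) *ᵥ w ∈ W) → W = ⊥ ∨ W = ⊤
  a_ne : a ≠ 0
  mem : ∀ v, B v a = 0 → InL B L a v (φ v)
  add : ∀ v w, B v a = 0 → B w a = 0 → φ (v + w) = φ v + φ w + B w v

/-- The points in the orbit of `a`, with all scalars. -/
def Pnt (L : Subgroup (GL ι F)) (a p : ι → F) : Prop :=
  ∃ g ∈ L, ∃ l : F, l ≠ 0 ∧ p = l • ((g : Matrix ι ι F) *ᵥ a)

variable {a : ι → F} {φ : (ι → F) → F}

theorem Pnt.map {q : ι → F} (h : Pnt L a q) {g : GL ι F} (hg : g ∈ L) :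
    Pnt L a ((g : Matrix ι ι F) *ᵥ q) := by
  obtain ⟨k, hk, l, hl, rfl⟩ := h
  exact ⟨g * k, mul_mem hg hk, l, hl, by rw [Matrix.mulVec_smul, Units.val_mul, ← Matrix.mulVec_mulVec]⟩

theorem Pnt.smul {q : ι → F} (h : Pnt L a q) {m : F} (hm : m ≠ 0) : Pnt L a (m • q) := by
  obtain ⟨k, hk, l, hl, rfl⟩ := h
  exact ⟨k, hk, m * l, mul_ne_zero hm hl, smul_smul _ _ _⟩

theorem Hyp.pnt_self (_h : Hyp B L a φ) : Pnt L a a := ⟨1, one_mem L, 1, one_ne_zero, by simp⟩

theorem Hyp.pnt_ne (h : Hyp B L a φ) {q : ι → F} (hq : Pnt L a q) : q ≠ 0 := by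
  obtain ⟨g, hg, l, hl, rfl⟩ := hq
  refine smul_ne_zero hl fun h0 => h.a_ne ?_
  have := congrArg (fun z => ((g⁻¹ : GL ι F) : Matrix ι ι F) *ᵥ z) h0
  simpa [Matrix.mulVec_mulVec, ← Units.val_mul] using this

/-- Every point has a full family of root elements. -/
theorem Hyp.full (h : Hyp B L a φ) {q : ι → F} (hq : Pnt L a q) {u : ι → F} (hu : B u q = 0) :
    ∃ e, InL B L q u e := by
  obtain ⟨g, hg, l, hl, rfl⟩ := hq
  obtain ⟨z, hz⟩ : ∃ z, u = (g : Matrix ι ι F) *ᵥ z :=
    ⟨((g⁻¹ : GL ι F) : Matrix ι ι F) *ᵥ u, by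
      rw [Matrix.mulVec_mulVec, ← Units.val_mul, mul_inv_cancel, Units.val_one, Matrix.one_mulVec]⟩
  subst hz
  rw [map_smul, smul_eq_mul, h.iso g hg, mul_eq_zero] at hu
  have hz : B (l • z) a = 0 := by
    rw [map_smul, LinearMap.smul_apply, hu.resolve_left hl, smul_zero]
  refine ⟨φ (l • z) / (l * l), ?_⟩
  have := ((h.mem _ hz).conj h.iso hg).smul_point' hl
  rwa [Matrix.mulVec_smul, smul_smul, inv_mul_cancel₀ hl, one_smul] at this

/-- The centres of transvections are the same at all points. -/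
theorem Hyp.centre_pull (h : Hyp B L a φ) {q : ι → F} (hq : Pnt L a q) {e : F} (he : InL B L q 0 e) (he0 : e ≠ 0) :
    ∃ e' ≠ 0, InL B L a 0 e' := by
  obtain ⟨g, hg, l, hl, rfl⟩ := hq
  refine ⟨l * l * e, mul_ne_zero (mul_ne_zero hl hl) he0, ?_⟩
  have := (InL.smul_point l he).conj h.iso (inv_mem hg)
  rwa [Matrix.mulVec_mulVec, ← Units.val_mul, inv_mul_cancel, Units.val_one, Matrix.one_mulVec, smul_zero,
    Matrix.mulVec_zero] at this

/-- The orbit spans. -/
theorem Hyp.span_top (h : Hyp B L a φ) : Submodule.span F {q | Pnt L a q} = ⊤ := by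
  refine (h.irr _ fun g hg w hw => ?_).resolve_left fun hbot => h.a_ne ?_
  · induction hw using Submodule.span_induction with
    | mem x hx => exact Submodule.subset_span (Pnt.map hx hg)
    | zero => rw [Matrix.mulVec_zero]; exact zero_mem _
    | add x y _ _ hx hy => rw [Matrix.mulVec_add]; exact add_mem hx hy
    | smul r x _ hx => rw [Matrix.mulVec_smul]; exact Submodule.smul_mem _ r hx
  · exact (Submodule.mem_bot F).1 (hbot ▸ Submodule.subset_span h.pnt_self)

/-- Some point pairs to one with `a`. -/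
theorem Hyp.exists_partner (h : Hyp B L a φ) : ∃ b, Pnt L a b ∧ B a b = 1 := by
  by_contra hcon
  refine h.a_ne (h.nd a fun y => ?_)
  have hy : y ∈ Submodule.span F {q | Pnt L a q} := by rw [h.span_top]; trivial
  induction hy using Submodule.span_induction with
  | mem x hx =>
    by_contra hne
    exact hcon ⟨(B a x)⁻¹ • x, Pnt.smul hx (inv_ne_zero hne), by
      rw [map_smul, smul_eq_mul, inv_mul_cancel₀ hne]⟩
  | zero => simp
  | add x y _ _ hx hy => rw [map_add, hx, hy, add_zero]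
  | smul r x _ hx => rw [map_smul, hx, smul_zero]

theorem Hyp.phi_zero (h : Hyp B L a φ) : φ 0 = 0 := by
  have := h.add 0 0 (by simp) (by simp)
  simpa [CharTwo.add_self_eq_zero] using this

/-- The projection killing the pairings with a hyperbolic pair. -/
theorem proj_perp (halt : ∀ x, B x x = 0) {b : ι → F} (hab : B a b = 1) (x : ι → F) :
    B (x + B x b • a + B x a • b) a = 0 ∧ B (x + B x b • a + B x a • b) b = 0 := by
  constructor <;>
    simp only [map_add, map_smul, LinearMap.add_apply, LinearMap.smul_apply, smul_eq_mul, halt, hab,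
      B_swap halt b a, mul_one, mul_zero, add_zero] <;> exact CharTwo.add_self_eq_zero _

/-- A partner inside the perpendicular space of a hyperbolic pair. -/
theorem exists_dual_perp (halt : ∀ x, B x x = 0) (hnd : ∀ x, (∀ y, B x y = 0) → x = 0) {b : ι → F}
    (hab : B a b = 1) {w : ι → F} (hw : w ≠ 0) (hwa : B w a = 0) (hwb : B w b = 0) :
    ∃ z, B z a = 0 ∧ B z b = 0 ∧ B z w = 1 := by
  obtain ⟨y, hy⟩ : ∃ y, B w y ≠ 0 := by
    by_contra hcon
    push Not at hcon
    exact hw (hnd w hcon)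
  set y' := (B w y)⁻¹ • y with hy'
  refine ⟨y' + B y' b • a + B y' a • b, (proj_perp halt hab y').1, (proj_perp halt hab y').2, ?_⟩
  simp only [map_add, map_smul, LinearMap.add_apply, LinearMap.smul_apply, smul_eq_mul,
    B_swap halt a w, B_swap halt b w, hwa, hwb, mul_zero, add_zero]
  rw [hy', map_smul, LinearMap.smul_apply, smul_eq_mul, B_swap halt y w, inv_mul_cancel₀ hy]

end Cfsg.Agent.Block.SpRootX
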