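import Cfsg.Agent.Lib.Block.SpRootX.Quad
import Cfsg.Agent.Lib.Classical.OrthEvenOmega

/-!
The root elements at a hyperbolic pair generate the kernel of the Dickson invariant.
-/

set_option autoImplicit false
set_option linter.unusedSectionVars false

namespace Cfsg.Agent.Block.SpRootX

open Matrix Module Cfsg Cfsg.Agent.Classical Cfsg.Agent.Classical.OrthAut Cfsg.Agent.Classical.SympEven

variable {F : Type*} [Field F] [Fintype F] [CharP F 2] {ι : Type} [Fintype ι] [DecidableEq ι]
  {B : LinearMap.BilinForm F (ι → F)} {L : Subgroup (GL ι F)} {a b : ι → F} {φ ψ : (ι → F) → F}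

/-- The quadratic form of the frame, bundled. -/
noncomputable def Frame.form (h : Frame B L a b φ ψ) : QuadraticForm F (ι → F) :=
  QuadraticMap.ofPolar (qf B φ a b) (fun m x => by rw [h.qf_smul, smul_eq_mul])
    (fun x x' y => by simp only [QuadraticMap.polar, h.qf_add, map_add, LinearMap.add_apply]; ring)
    (fun m x y => by
      simp only [QuadraticMap.polar, h.qf_add, map_smul, LinearMap.smul_apply, smul_eq_mul]; ring)

theorem Frame.form_apply (h : Frame B L a b φ ψ) (x : ι → F) : h.form x = qf B φ a b x := rfl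

theorem Frame.form_polar (h : Frame B L a b φ ψ) (x y : ι → F) :
    QuadraticMap.polar ⇑h.form x y = B x y := by
  simp only [QuadraticMap.polar, h.form_apply, h.qf_add]; ring

theorem Frame.form_nd (h : Frame B L a b φ ψ) : (QuadraticMap.polarBilin h.form).Nondegenerate :=
  ⟨fun x hx => h.hyp.nd x fun y => by rw [← h.form_polar]; exact hx y,
    fun x hx => h.hyp.nd x fun y => by rw [← h.form_polar, QuadraticMap.polar_comm]; exact hx y⟩

theorem Frame.le_isometry (h : Frame B L a b φ ψ) : L ≤ isometryGroup F ⇑h.form :=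
  fun _ hg => mem_isometryGroup.2 fun x => h.preserve hg x

theorem Frame.qf_W (_h : Frame B L a b φ ψ) {v : ι → F} (hv : InW B a b v) : qf B φ a b v = φ v := by
  simp [qf, proj, hv.1, hv.2]

theorem Frame.qf_a (h : Frame B L a b φ ψ) : qf B φ a b a = 0 :=
  qf_left h.hyp.alt h.hab h.hyp.phi_zero

theorem Frame.qf_b (h : Frame B L a b φ ψ) : qf B φ a b b = 0 := h.singular h.pb

/-- The generated group. -/
noncomputable def Frame.gens (h : Frame B L a b φ ψ) : Subgroup (isometryGroup F ⇑h.form) :=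
  Subgroup.closure {g | ∃ v, InW B a b v ∧
    ((∀ x, ogVal g *ᵥ x = sg B a v (φ v) x) ∨ (∀ x, ogVal g *ᵥ x = sg B b v (φ v) x))}

theorem Frame.exists_gen_left (h : Frame B L a b φ ψ) {v : ι → F} (hv : InW B a b v) :
    ∃ g ∈ h.gens, ∀ x, ogVal g *ᵥ x = sg B a v (φ v) x := by
  obtain ⟨g, hg, hgx⟩ := h.hyp.mem v hv.1
  exact ⟨⟨g, h.le_isometry hg⟩, Subgroup.subset_closure ⟨v, hv, Or.inl hgx⟩, hgx⟩

theorem Frame.exists_gen_right (h : Frame B L a b φ ψ) {v : ι → F} (hv : InW B a b v) :
    ∃ g ∈ h.gens, ∀ x, ogVal g *ᵥ x = sg B b v (φ v) x := by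
  obtain ⟨g, hg, hgx⟩ := h.hypb.mem v hv.2
  rw [(h.line hv).1] at hgx
  exact ⟨⟨g, h.le_isometry hg⟩, Subgroup.subset_closure ⟨v, hv, Or.inr hgx⟩, hgx⟩

theorem Frame.gens_mem (h : Frame B L a b φ ψ) :
    ∀ g ∈ h.gens, (g : GL ι F) ∈ L := by
  intro g hg
  induction hg using Subgroup.closure_induction with
  | mem g hg =>
    obtain ⟨v, hv, hgx | hgx⟩ := hg
    · obtain ⟨k, hk, hkx⟩ := h.hyp.mem v hv.1
      convert hk using 1
      exact Units.ext (Matrix.ext_iff_mulVec.2 fun x => (hgx x).trans (hkx x).symm)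
    · obtain ⟨k, hk, hkx⟩ := h.hypb.mem v hv.2
      rw [(h.line hv).1] at hkx
      convert hk using 1
      exact Units.ext (Matrix.ext_iff_mulVec.2 fun x => (hgx x).trans (hkx x).symm)
  | one => exact one_mem L
  | mul x y _ _ hx hy => exact mul_mem hx hy
  | inv x _ hx => exact inv_mem hx

theorem Frame.ne_zero_two (h : Frame B L a b φ ψ) :
    ∃ v, InW B a b v ∧ φ v ≠ 0 := by
  obtain ⟨w, hw0, hw⟩ := exists_perp_ne h.hyp.alt h.dim a b
  obtain ⟨y, hya, hyb, hyw⟩ := exists_dual_perp h.hyp.alt h.hyp.nd h.hab hw0 hw.1 hw.2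
  by_contra hcon
  push Not at hcon
  have := h.hyp.add y w hya hw.1
  rw [hcon _ (InW.add ⟨hya, hyb⟩ hw), hcon y ⟨hya, hyb⟩, hcon w hw, B_swap h.hyp.alt, hyw] at this
  simp at this

/-- Transitivity on the vectors of norm one. -/
theorem Frame.move (h : Frame B L a b φ ψ) {x : ι → F} (hx : qf B φ a b x = 1) :
    ∃ g ∈ h.gens, ogVal g *ᵥ x = a + b := by
  have halt := h.hyp.alt
  have hba : B b a = 1 := by rw [B_swap halt]; exact h.hab
  have hB : ∀ (g : isometryGroup F ⇑h.form) u v, B (ogVal g *ᵥ u) (ogVal g *ᵥ v) = B u v := fun g u v => by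
    rw [← h.form_polar, ← h.form_polar, isometry_polar (ogVal_quad g)]
  have hQg : ∀ (g : isometryGroup F ⇑h.form) u, qf B φ a b (ogVal g *ᵥ u) = qf B φ a b u := fun g u =>
    ogVal_quad g u
  obtain ⟨v₀, hv₀, hv₀0⟩ := h.ne_zero_two
  -- first make the pairing with `a` non-zero
  obtain ⟨g₁, hg₁, h1⟩ : ∃ g ∈ h.gens, B (ogVal g *ᵥ x) a ≠ 0 := by
    by_contra hcon
    push Not at hcon
    have hxa : B x a = 0 := by simpa using hcon 1 (one_mem _)
    have hall : ∀ v, InW B a b v → B x v + φ v * B x b = 0 := fun v hv => by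
      obtain ⟨g, hg, hgx⟩ := h.exists_gen_right hv
      have h1 := hcon g hg
      rw [hgx] at h1
      simpa [sg, hxa, hv.1, hba] using h1
    have hxb : B x b = 0 := by
      by_contra hne
      obtain ⟨w, hw0, hw⟩ := exists_perp_ne halt h.dim a b
      obtain ⟨y, hya, hyb, hyw⟩ := exists_dual_perp halt h.hyp.nd h.hab hw0 hw.1 hw.2
      have e1 := hall w hw
      have e2 := hall y ⟨hya, hyb⟩
      have e3 := hall _ (InW.add ⟨hya, hyb⟩ hw)
      rw [map_add, h.hyp.add y w hya hw.1, B_swap halt w y, hyw] at e3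
      exact hne (by linear_combination e3 - e1 - e2)
    have hx0 : x = 0 := h.hyp.nd x fun y => by
      have e := hall _ (h.proj_mem y)
      simp only [proj, map_add, map_smul, smul_eq_mul, hxa, hxb, mul_zero, add_zero] at e
      exact e
    rw [hx0, show (0 : ι → F) = (0 : F) • a from (zero_smul F a).symm, h.qf_smul] at hx
    simp at hx
  -- a vector with coefficient one
  obtain ⟨g₂, hg₂, h2⟩ : ∃ g ∈ h.gens, B (ogVal g *ᵥ x) a = 1 := by
    obtain ⟨y, hy⟩ : ∃ y, y = ogVal g₁ *ᵥ x := ⟨_, rfl⟩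
    rw [← hy] at h1
    obtain ⟨β, hβ⟩ : ∃ β, β = B y a := ⟨_, rfl⟩
    rw [← hβ] at h1
    have hvW : InW B a b (β⁻¹ • proj B a b y) := (h.proj_mem y).smul _
    obtain ⟨k, hk, hkx⟩ := h.exists_gen_left hvW
    obtain ⟨y', hy'⟩ : ∃ y', y' = ogVal k *ᵥ y := ⟨_, rfl⟩
    have hy'a : B y' a = β := by
      rw [hy', hβ, hkx, sg]
      simp [halt, (h.proj_mem y).1]
    have hy'W : ∀ v, InW B a b v → B y' v = 0 := fun v hv => by
      rw [hy', hkx, sg]
      simp only [map_add, map_smul, LinearMap.add_apply, LinearMap.smul_apply, smul_eq_mul, ← hβ, proj,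
        B_swap halt a v, B_swap halt b v, hv.1, hv.2, mul_zero, add_zero]
      field_simp
      linear_combination (B y v) * CharTwo.two_eq_zero (R := F)
    have hy'b : B y' b * β = 1 := by
      have hW0 : proj B a b y' = 0 := h.hyp.nd _ fun z => by
        have e1 := hy'W _ (h.proj_mem z)
        simp only [proj, map_add, map_smul, LinearMap.add_apply, LinearMap.smul_apply, smul_eq_mul,
          B_swap halt a z, B_swap halt b z] at e1 ⊢
        linear_combination e1
      have := hQg k y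
      rw [← hy', hy, hQg, hx, qf, hW0, h.hyp.phi_zero, add_zero, hy'a] at this
      exact this
    by_cases hβ1 : β = 1
    · exact ⟨k * g₁, mul_mem hk hg₁, by
        rw [ogVal_mul, ← Matrix.mulVec_mulVec, ← hy, ← hy', hy'a, hβ1]⟩
    -- a vector of `W` of norm `β (1 + β)`
    obtain ⟨t, ht⟩ := FiniteField.isSquare_of_char_two (ringChar.eq F 2) (β * (1 + β) / φ v₀)
    have hφ : φ (t • v₀) = β * (1 + β) := by rw [(h.line hv₀).2, ← ht, div_mul_cancel₀ _ hv₀0]
    obtain ⟨m, hm, hmx⟩ := h.exists_gen_right (hv₀.smul t)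
    refine ⟨m * (k * g₁), mul_mem hm (mul_mem hk hg₁), ?_⟩
    rw [ogVal_mul, ogVal_mul, ← Matrix.mulVec_mulVec, ← Matrix.mulVec_mulVec, ← hy, ← hy', hmx, sg]
    simp only [hφ, map_add, map_smul, LinearMap.add_apply, LinearMap.smul_apply, smul_eq_mul, hy'a, hy'W _ hv₀,
      hv₀.1, hba, mul_zero, add_zero, zero_add, mul_one]
    have h2 := CharTwo.two_eq_zero (R := F)
    linear_combination (1 + β) * hy'b + β * h2
  -- clear the component in the perpendicular space
  obtain ⟨y, hy⟩ : ∃ y, y = ogVal g₂ *ᵥ x := ⟨_, rfl⟩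
  rw [← hy] at h2
  obtain ⟨k, hk, hkx⟩ := h.exists_gen_left (h.proj_mem y)
  refine ⟨k * g₂, mul_mem hk hg₂, ?_⟩
  rw [ogVal_mul, ← Matrix.mulVec_mulVec, ← hy]
  obtain ⟨z, hz⟩ : ∃ z, z = ogVal k *ᵥ y := ⟨_, rfl⟩
  rw [← hz]
  have hk' := hkx y
  rw [← hz, sg, h2, one_smul] at hk'
  obtain ⟨e, he⟩ : ∃ e, z = e • a + b := by
    refine ⟨B y b + (B y (proj B a b y) + φ (proj B a b y) * 1), ?_⟩
    rw [hk']
    simp only [proj, h2]
    funext i
    simp only [Pi.add_apply, Pi.smul_apply, smul_eq_mul, one_mul]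
    linear_combination (y i) * CharTwo.two_eq_zero (R := F)
  have hQz : qf B φ a b z = 1 := by rw [hz, hQg, hy, hQg, hx]
  rw [he, h.qf_add, h.qf_smul, h.qf_a, h.qf_b, map_smul, LinearMap.smul_apply, h.hab] at hQz
  rw [he, show e = 1 by simpa using hQz, one_smul]

theorem Frame.sum_norm (h : Frame B L a b φ ψ) : h.form (a + b) = 1 := by
  rw [h.form_apply, h.qf_add, h.qf_a, h.qf_b, h.hab]; simp

/-- The reflection in `a + b`. -/
noncomputable def Frame.r₀ (h : Frame B L a b φ ψ) : isometryGroup F ⇑h.form :=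
  refl (v := a + b) (by rw [h.sum_norm]; exact one_ne_zero)

theorem Frame.r₀_apply (h : Frame B L a b φ ψ) (x : ι → F) :
    ogVal h.r₀ *ᵥ x = x + (B x a + B x b) • (a + b) := by
  rw [Frame.r₀, refl_apply, h.sum_norm, inv_one, one_mul, h.form_polar, B_swap h.hyp.alt, map_add]
  funext i
  simp [CharTwo.sub_eq_add]

theorem Frame.r₀_sq (h : Frame B L a b φ ψ) : h.r₀ * h.r₀ = 1 := refl_mul_self _

theorem Frame.r₀_normal (h : Frame B L a b φ ψ) {g : isometryGroup F ⇑h.form} (hg : g ∈ h.gens) :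
    h.r₀ * g * h.r₀ ∈ h.gens := by
  have halt := h.hyp.alt
  have hba : B b a = 1 := by rw [B_swap halt]; exact h.hab
  have two := CharTwo.two_eq_zero (R := F)
  have swap : ∀ v, InW B a b v → ∀ p q, ((p = a ∧ q = b) ∨ (p = b ∧ q = a)) → ∀ x,
      ogVal h.r₀ *ᵥ sg B p v (φ v) (ogVal h.r₀ *ᵥ x) = sg B q v (φ v) x := by
    intro v hv p q hpq x
    rcases hpq with ⟨rfl, rfl⟩ | ⟨rfl, rfl⟩ <;>
    · simp only [h.r₀_apply, sg, map_add, map_smul, LinearMap.add_apply, LinearMap.smul_apply, smul_eq_mul,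
        halt, h.hab, hba, hv.1, hv.2, B_swap halt p v, B_swap halt q v, mul_zero, mul_one, add_zero, zero_add]
      match_scalars <;> grind
  induction hg using Subgroup.closure_induction with
  | mem g hg =>
    obtain ⟨v, hv, hgx | hgx⟩ := hg
    · exact Subgroup.subset_closure ⟨v, hv, Or.inr fun x => by
        rw [ogVal_mul, ogVal_mul, ← Matrix.mulVec_mulVec, ← Matrix.mulVec_mulVec, hgx]
        exact swap v hv _ _ (Or.inl ⟨rfl, rfl⟩) x⟩
    · exact Subgroup.subset_closure ⟨v, hv, Or.inl fun x => by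
        rw [ogVal_mul, ogVal_mul, ← Matrix.mulVec_mulVec, ← Matrix.mulVec_mulVec, hgx]
        exact swap v hv _ _ (Or.inr ⟨rfl, rfl⟩) x⟩
  | one => rw [mul_one, h.r₀_sq]; exact one_mem _
  | mul x y _ _ hx hy =>
    have := mul_mem hx hy
    simpa only [mul_assoc, ← mul_assoc h.r₀ h.r₀, h.r₀_sq, one_mul] using this
  | inv x _ hx =>
    have := inv_mem hx
    simpa only [_root_.mul_inv_rev, inv_eq_of_mul_eq_one_right h.r₀_sq, mul_assoc] using this

theorem Frame.dick_gen (h : Frame B L a b φ ψ) {g : isometryGroup F ⇑h.form} {p v : ι → F}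
    (hp : (p = a) ∨ (p = b)) (hv : InW B a b v) (hgx : ∀ x, ogVal g *ᵥ x = sg B p v (φ v) x) {m : ℕ}
    (hι : Fintype.card ι = 2 * m) : dick g = 1 := by
  have halt := h.hyp.alt
  rcases eq_or_ne v 0 with rfl | hv0
  · have : g = 1 := ogVal_ext (Matrix.ext_iff_mulVec.2 fun x => by
      rw [hgx, h.hyp.phi_zero, ogVal_one, Matrix.one_mulVec, sg_zero]; simp)
    rw [this, dick_one]
  obtain ⟨q, hpq, hvq⟩ : ∃ q, B p q = 1 ∧ B v q = 0 := by
    rcases hp with rfl | rfl
    · exact ⟨b, h.hab, hv.2⟩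
    · exact ⟨a, by rw [B_swap halt]; exact h.hab, hv.1⟩
  have hvp : B v p = 0 := by rcases hp with rfl | rfl; exacts [hv.1, hv.2]
  obtain ⟨y, hya, hyb, hyv⟩ := exists_dual_perp halt h.hyp.nd h.hab hv0 hv.1 hv.2
  have hyp : B y p = 0 := by rcases hp with rfl | rfl; exacts [hya, hyb]
  have hrange : LinearMap.range (qmove g) = Submodule.span F (Set.range ![v, p]) := by
    refine le_antisymm ?_ ?_
    · rintro _ ⟨x, rfl⟩
      rw [qmove_apply, hgx, Submodule.mem_span_range_iff_exists_fun]
      refine ⟨![B x p, B x v + φ v * B x p], ?_⟩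
      simp only [Fin.sum_univ_two, Matrix.cons_val_zero, Matrix.cons_val_one, sg]
      funext i
      simp only [Pi.add_apply, Pi.smul_apply, smul_eq_mul]
      linear_combination (-(x i)) * CharTwo.two_eq_zero (R := F)
    · rw [Submodule.span_le]
      have hpm : p ∈ LinearMap.range (qmove g) := ⟨y, by
        rw [qmove_apply, hgx, sg, hyp, hyv]
        simp only [zero_smul, add_zero, mul_zero, one_smul]
        funext i
        simp only [Pi.add_apply]
        linear_combination (y i) * CharTwo.two_eq_zero (R := F)⟩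
      have hvm : v ∈ LinearMap.range (qmove g) := by
        have hq : qmove g q = v + φ v • p := by
          rw [qmove_apply, hgx, sg, B_swap halt q p, hpq, B_swap halt q v, hvq]
          funext i
          simp only [Pi.add_apply, Pi.smul_apply, smul_eq_mul]
          linear_combination (q i) * CharTwo.two_eq_zero (R := F)
        have hmem : v + φ v • p ∈ LinearMap.range (qmove g) := ⟨q, hq⟩
        simpa using sub_mem hmem (Submodule.smul_mem _ (φ v) hpm)
      rintro _ ⟨i, rfl⟩
      fin_cases i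
      · exact hvm
      · exact hpm
  have hli : LinearIndependent F ![v, p] := by
    rw [LinearIndependent.pair_iff]
    intro s t e
    have e1 := congrArg (fun z => B z q) e
    have e2 := congrArg (fun z => B y z) e
    simp [hpq, hvq] at e1
    simp [hyv, hyp] at e2
    exact ⟨e2, e1⟩
  rw [dick_involution h.form_nd hι, hrange, finrank_span_eq_card hli]
  exact ⟨1, rfl⟩

/-- The group is the isometry group or the kernel of the Dickson invariant. -/
theorem Frame.classify (h : Frame B L a b φ ψ) {m : ℕ} (hι : Fintype.card ι = 2 * m)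
    (hG : Fintype.card F ≠ 2 ∨ Fintype.card ι ≠ 4) :
    L = isometryGroup F ⇑h.form ∨
      ∀ g : GL ι F, g ∈ L ↔ (g ∈ isometryGroup F ⇑h.form ∧ Even ((g : Matrix ι ι F) - 1).rank) := by
  have hQ := h.form_nd
  have hgen : GenQ F ι := genQ_of_card hG
  -- every isometry is a product of a generated element and a power of the reflection
  have cover : ∀ g : isometryGroup F ⇑h.form, g ∈ h.gens ∨ g * h.r₀ ∈ h.gens := by
    intro g
    have hg : g ∈ reflGroup h.form := by rw [reflGroup_eq_top_gen hQ hgen]; trivial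
    induction hg using Subgroup.closure_induction with
    | mem g hg =>
      obtain ⟨u, hu, rfl⟩ := hg
      right
      obtain ⟨c, hc⟩ := FiniteField.isSquare_of_char_two (ringChar.eq F 2) (h.form u)
      have hc0 : c ≠ 0 := fun e => hu (by rw [hc, e, mul_zero])
      have hu1 : qf B φ a b (c⁻¹ • u) = 1 := by
        rw [h.qf_smul, ← h.form_apply, hc]; field_simp
      obtain ⟨k, hk, hku⟩ := h.move hu1
      have hu' : h.form (ogVal k *ᵥ u) ≠ 0 := by rw [ogVal_quad]; exact hu
      have e1 : refl hu' = h.r₀ := refl_congr hu' _ (c := c⁻¹) (by rw [← hku, Matrix.mulVec_smul])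
      have e2 := refl_conj k hu hu'
      rw [e1] at e2
      have e3 : refl hu = k⁻¹ * h.r₀ * k := by rw [← e2]; group
      rw [e3, show k⁻¹ * h.r₀ * k * h.r₀ = k⁻¹ * (h.r₀ * k * h.r₀) by group]
      exact mul_mem (inv_mem hk) (h.r₀_normal hk)
    | one => exact Or.inl (one_mem _)
    | mul x y _ _ hx hy =>
      rcases hx with hx | hx <;> rcases hy with hy | hy
      · exact Or.inl (mul_mem hx hy)
      · exact Or.inr (by rw [mul_assoc]; exact mul_mem hx hy)
      · refine Or.inr ?_
        rw [show x * y * h.r₀ = (x * h.r₀) * (h.r₀⁻¹ * y * h.r₀) by group,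
          inv_eq_of_mul_eq_one_right h.r₀_sq]
        exact mul_mem hx (h.r₀_normal hy)
      · refine Or.inl ?_
        have := mul_mem hx (h.r₀_normal hy)
        simpa only [mul_assoc, ← mul_assoc h.r₀ h.r₀, h.r₀_sq, one_mul, mul_one] using this
    | inv x _ hx =>
      rcases hx with hx | hx
      · exact Or.inl (inv_mem hx)
      · refine Or.inr ?_
        have := h.r₀_normal (inv_mem hx)
        simpa only [_root_.mul_inv_rev, inv_eq_of_mul_eq_one_right h.r₀_sq, ← mul_assoc, h.r₀_sq, one_mul]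
          using this
  have hdick : ∀ g ∈ h.gens, dick g = 1 := by
    intro g hg
    induction hg using Subgroup.closure_induction with
    | mem g hg =>
      obtain ⟨v, hv, hgx | hgx⟩ := hg
      · exact h.dick_gen (Or.inl rfl) hv hgx hι
      · exact h.dick_gen (Or.inr rfl) hv hgx hι
    | one => exact dick_one
    | mul x y _ _ hx hy => rw [dick_mul_gen hQ hgen, hx, hy, one_mul]
    | inv x _ hx =>
      have := dick_mul_gen hQ hgen x x⁻¹
      rwa [mul_inv_cancel, dick_one, hx, one_mul, eq_comm] at this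
  by_cases hr : (h.r₀ : GL ι F) ∈ L
  · refine Or.inl (le_antisymm h.le_isometry fun g hg => ?_)
    rcases cover ⟨g, hg⟩ with h1 | h1
    · exact h.gens_mem _ h1
    · have h2 := mul_mem (h.gens_mem _ h1) hr
      rw [← Subgroup.coe_mul, mul_assoc, h.r₀_sq, mul_one] at h2
      exact h2
  · refine Or.inr fun g => ⟨fun hg => ⟨h.le_isometry hg, ?_⟩, fun hg => ?_⟩
    · have hmem : (⟨g, h.le_isometry hg⟩ : isometryGroup F ⇑h.form) ∈ h.gens := by
        refine (cover _).resolve_right fun h1 => hr ?_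
        have h2 := mul_mem (inv_mem hg) (h.gens_mem _ h1)
        simpa using h2
      have h3 := (dick_involution h.form_nd hι _).1 (hdick _ hmem)
      rw [← rank_qmove] at h3
      exact h3
    · obtain ⟨hgO, hev⟩ := hg
      refine h.gens_mem ⟨g, hgO⟩ ((cover _).resolve_right fun h1 => ?_)
      have h3 : dick (⟨g, hgO⟩ : isometryGroup F ⇑h.form) = 1 :=
        (dick_involution h.form_nd hι _).2 (by rw [← rank_qmove]; exact hev)
      have h4 := hdick _ h1
      rw [dick_mul_gen hQ hgen, h3, one_mul, Frame.r₀, dick_refl hQ] at h4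
      exact absurd h4 (by decide)

end Cfsg.Agent.Block.SpRootX
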