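import Cfsg.Agent.Lib.Block.SpRootX.Code
import Cfsg.Agent.Lib.Block.SpRootX.Orth

/-!
Word certificates for subgroups of the four-dimensional symplectic group over two elements.
-/

set_option autoImplicit false
set_option linter.unusedSectionVars false

namespace Cfsg.Agent.Block.SpRootX.Code

open Matrix Module Cfsg Cfsg.Agent.Classical Cfsg.Agent.Classical.MaxTv

/-- The product of a word, written in base eight. -/
def evalW (G : List ℕ) : ℕ → ℕ → ℕ
  | 0, _ => one
  | k + 1, w => if w = 0 then one else cmp (G.getD (w % 8 - 1) one) (evalW G k (w / 8))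

/-- The value of a word of bounded length. -/
def ev (G : List ℕ) (w : ℕ) : ℕ := evalW G 32 w

/-- The class of a certificate. -/
def tag (t : ℕ) : ℕ := t % 4

/-- The first word. -/
def w1 (t : ℕ) : ℕ := t / 4 % 2 ^ 96

/-- The second word. -/
def w2 (t : ℕ) : ℕ := t / 4 / 2 ^ 96

/-- The code of the transvection at the first basis vector. -/
def tA : ℕ := sgC 1 0 true

/-- The four generators. -/
def gensN (p₁ p₂ q₁ q₂ : Bool) : List ℕ := [sgC 1 2 p₁, sgC 1 8 p₂, sgC 4 2 q₁, sgC 4 8 q₂]

/-- A certificate is correct. -/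
def okCert (G : List ℕ) (r₁ r₂ : ℕ) (p : ℕ × ℕ) : Bool :=
  if tag p.2 == 0 then ev (one :: G) (w1 p.2) == p.1
  else if tag p.2 == 1 then (ev (p.1 :: G) (w1 p.2) == r₁) && (ev (r₁ :: G) (w2 p.2) == p.1)
  else if tag p.2 == 2 then (ev (p.1 :: G) (w1 p.2) == r₂) && (ev (r₂ :: G) (w2 p.2) == p.1)
  else ev (p.1 :: G) (w1 p.2) == tA

/-- The classes present in the group. -/
def sel (b₁ b₂ : Bool) (t : ℕ) : Bool :=
  (tag t == 0) || ((b₁ && (tag t == 1)) || (b₂ && (tag t == 2)))

/-- The codes of the selected classes. -/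
def chosen (T : List (ℕ × ℕ)) (b₁ b₂ : Bool) : List ℕ := (T.filter fun p => sel b₁ b₂ p.2).map Prod.fst

/-- The value of the quadratic form. -/
def qN (m : Bool) (x : ℕ) : Bool :=
  ((x.testBit 0 && x.testBit 2) ^^ (x.testBit 1 && x.testBit 3)) ^^ (m && (x.testBit 1 ^^ x.testBit 3))

/-- Invariance of the quadratic form. -/
def isoN (m : Bool) (c : ℕ) : Bool := (List.range 16).all fun x => qN m (ap c x) == qN m x

/-- The image of `g - 1`. -/
def moved (c : ℕ) : List ℕ := (List.range 16).map fun x => ap c x ^^^ x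

/-- The number of elements of the image of `g - 1`. -/
def numMoved (c : ℕ) : ℕ := ((List.range 16).filter fun y => (moved c).contains y).length

/-- `g - 1` has even rank. -/
def evenR (c : ℕ) : Bool := (numMoved c == 1) || ((numMoved c == 4) || (numMoved c == 16))

/-- The set `i` is carried to the set `j`. -/
def rel (M : List ℕ) (c i j : ℕ) : Bool :=
  (List.range 16).all fun x => (M.getD j 0).testBit (ap c x) == (M.getD i 0).testBit x

/-- The candidates for the image of the set `i`. -/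
def cands (M : List ℕ) (c i : ℕ) : List ℕ := (List.range M.length).filter (rel M c i)

/-- The sets are permuted, trivially only by the identity. -/
def permOK (M : List ℕ) (c : ℕ) : Bool :=
  ((List.range M.length).all fun i => (cands M c i).length == 1) &&
    (!((List.range M.length).all fun i => rel M c i i) || (c == one))

variable {F : Type*} [Field F] [CharP F 2] [Fintype F]

local notation "V4" => (Fin 2 ⊕ Fin 2 → F)
local notation "M4" => Matrix (Fin 2 ⊕ Fin 2) (Fin 2 ⊕ Fin 2) F
local notation "GL4" => GL (Fin 2 ⊕ Fin 2) F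

/-- The element with this code in the basis `P` lies in `L`. -/
def InC (P : GL4) (L : Subgroup GL4) (c : ℕ) : Prop := ∃ g ∈ L, (g : M4) * (P : M4) = (P : M4) * mat c

variable {P : GL (Fin 2 ⊕ Fin 2) F} {L : Subgroup (GL (Fin 2 ⊕ Fin 2) F)}

theorem InC.one' : InC P L one := ⟨1, one_mem L, by simp [mat_one]⟩

theorem InC.cmp {c d : ℕ} (hc : InC P L c) (hd : InC P L d) : InC P L (cmp c d) := by
  obtain ⟨g, hg, hgx⟩ := hc
  obtain ⟨k, hk, hkx⟩ := hd
  refine ⟨g * k, mul_mem hg hk, ?_⟩
  rw [Units.val_mul, Matrix.mul_assoc, hkx, ← Matrix.mul_assoc, hgx, Matrix.mul_assoc, mat_cmp]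

theorem InC.evalW {G : List ℕ} (hG : ∀ c ∈ G, InC P L c) : ∀ k w, InC P L (evalW G k w) := by
  intro k
  induction k with
  | zero => exact fun _ => InC.one'
  | succ k ih =>
    intro w
    simp only [Code.evalW]
    split
    · exact InC.one'
    · refine InC.cmp ?_ (ih _)
      rw [List.getD_eq_getElem?_getD]
      rcases h : G[w % 8 - 1]? with _ | c
      · exact InC.one'
      · exact hG c (List.mem_of_getElem? h)

theorem InC.ev {G : List ℕ} (hG : ∀ c ∈ G, InC P L c) {r : ℕ} (hr : InC P L r) (w : ℕ) :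
    InC P L (ev (r :: G) w) :=
  InC.evalW (List.forall_mem_cons.2 ⟨hr, hG⟩) _ _

open scoped _root_.Classical in
/-- Correct certificates determine the group. -/
theorem class_mem {G : List ℕ} {r₁ r₂ : ℕ} {T : List (ℕ × ℕ)} (hT : T.all (okCert G r₁ r₂) = true)
    (hG : ∀ c ∈ G, InC P L c) (htA : ¬InC P L tA) {p : ℕ × ℕ} (hp : p ∈ T) :
    InC P L p.1 ↔ sel (decide (InC P L r₁)) (decide (InC P L r₂)) p.2 = true := by
  have hok := List.all_eq_true.1 hT p hp
  unfold okCert at hok
  simp only [sel, beq_iff_eq, Bool.or_eq_true, Bool.and_eq_true, decide_eq_true_eq] at hok ⊢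
  split_ifs at hok with h0 h1 h2
  · simp only [h0, true_or, iff_true]
    exact (beq_iff_eq.1 hok) ▸ InC.ev hG InC.one' _
  · simp only [Bool.and_eq_true, beq_iff_eq] at hok
    simp only [h1, and_true, show ¬((1 : ℕ) = 0) by omega, show ¬((1 : ℕ) = 2) by omega, and_false, or_false,
      false_or]
    exact ⟨fun h => hok.1 ▸ InC.ev hG h _, fun h => hok.2 ▸ InC.ev hG h _⟩
  · simp only [Bool.and_eq_true, beq_iff_eq] at hok
    simp only [h2, and_true, show ¬((2 : ℕ) = 0) by omega, show ¬((2 : ℕ) = 1) by omega, and_false,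
      false_or]
    exact ⟨fun h => hok.1 ▸ InC.ev hG h _, fun h => hok.2 ▸ InC.ev hG h _⟩
  · simp only [h0, h1, h2, and_false, or_false, iff_false]
    exact fun h => htA ((beq_iff_eq.1 hok) ▸ InC.ev hG h _)

/-- The matrix of an element in the basis `P`. -/
theorem conj_eq {g : GL4} {c : ℕ} (h : (g : M4) * (P : M4) = (P : M4) * mat c) :
    ((P⁻¹ * g * P : GL4) : M4) = mat c := by
  rw [Units.val_mul, Units.val_mul, Matrix.mul_assoc, h, ← Matrix.mul_assoc, ← Units.val_mul, inv_mul_cancel,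
    Units.val_one, Matrix.one_mul]

theorem exists_of_mem (hF : Fintype.card F = 2) (hP : P ∈ spGL 2 F) (hL : L ≤ spGL 2 F) {g : GL4} (hg : g ∈ L) :
    ∃ c ∈ spList, (g : M4) * (P : M4) = (P : M4) * mat c := by
  obtain ⟨c, hc, he⟩ := exists_code hF ((P⁻¹ * g * P : GL4) : M4) fun x y => by
    rw [sympB_apply, sympB_apply]
    exact mem_spGL.1 (mul_mem (mul_mem (inv_mem hP) (hL hg)) hP) x y
  refine ⟨c, hc, ?_⟩
  rw [← he, ← Units.val_mul, ← Units.val_mul]
  congr 1
  group

open scoped _root_.Classical in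
/-- The elements of the group. -/
theorem mem_iff_chosen {G : List ℕ} {r₁ r₂ : ℕ} {T : List (ℕ × ℕ)} (hT : T.all (okCert G r₁ r₂) = true)
    (hfst : T.map Prod.fst = spList) (hG : ∀ c ∈ G, InC P L c) (htA : ¬InC P L tA) {c : ℕ}
    (hc : c ∈ spList) : InC P L c ↔ c ∈ chosen T (decide (InC P L r₁)) (decide (InC P L r₂)) := by
  constructor
  · intro h
    obtain ⟨p, hp, rfl⟩ := List.mem_map.1 (hfst ▸ hc : c ∈ T.map Prod.fst)
    exact List.mem_map.2 ⟨p, List.mem_filter.2 ⟨hp, (class_mem hT hG htA hp).1 h⟩, rfl⟩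
  · intro h
    obtain ⟨p, hp, rfl⟩ := List.mem_map.1 h
    rw [List.mem_filter] at hp
    exact (class_mem hT hG htA hp.1).2 hp.2

/-- Counting the group. -/
theorem natCard_eq (hF : Fintype.card F = 2) (hP : P ∈ spGL 2 F) (hL : L ≤ spGL 2 F) {S : List ℕ}
    (hS : ∀ c ∈ spList, (InC P L c ↔ c ∈ S)) (hsub : ∀ c ∈ S, c ∈ spList) (hnd : S.Nodup) :
    Nat.card L = S.length := by
  have key : ∀ g : L, ∃ c : {c // c ∈ S}, ((g : GL4) : M4) * (P : M4) = (P : M4) * mat c.1 := fun g => by
    obtain ⟨c, hc, he⟩ := exists_of_mem hF hP hL g.2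
    exact ⟨⟨c, (hS c hc).1 ⟨g, g.2, he⟩⟩, he⟩
  choose f hf using key
  have hbij : Function.Bijective f := by
    refine ⟨fun g k e => ?_, fun c => ?_⟩
    · refine Subtype.ext (mul_right_cancel (b := P) (Units.ext ?_))
      rw [Units.val_mul, Units.val_mul, hf, hf, e]
    · obtain ⟨g, hg, he⟩ := (hS c.1 (hsub _ c.2)).2 c.2
      refine ⟨⟨g, hg⟩, Subtype.ext (mat_inj (F := F) (spList_lt (hsub _ (f ⟨g, hg⟩).2)) (spList_lt (hsub _ c.2)) ?_)⟩
      rw [← conj_eq he, ← conj_eq (hf ⟨g, hg⟩)]
  rw [Nat.card_congr (Equiv.ofBijective f hbij),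
    Nat.card_congr (Equiv.subtypeEquivRight fun c => (List.mem_toFinset).symm), Nat.card_eq_finsetCard,
    List.toFinset_card_of_nodup hnd]

/-- The permutation action on the sets. -/
theorem exists_perm_hom (hF : Fintype.card F = 2) (hP : P ∈ spGL 2 F) (hL : L ≤ spGL 2 F) (M : List ℕ)
    (hM : ∀ c ∈ spList, InC P L c → permOK M c = true) :
    ∃ f : L →* Equiv.Perm (Fin M.length), Function.Injective f := by
  have key : ∀ g : L, ∃ c ∈ spList, ((g : GL4) : M4) * (P : M4) = (P : M4) * mat c :=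
    fun g => exists_of_mem hF hP hL g.2
  choose κ hκ hκx using key
  have hok : ∀ g : L, permOK M (κ g) = true := fun g => hM _ (hκ g) ⟨g, g.2, hκx g⟩
  simp only [permOK, Bool.and_eq_true, List.all_eq_true, List.mem_range, beq_iff_eq, Bool.or_eq_true,
    Bool.not_eq_true'] at hok
  have hex : ∀ (g : L) (i : Fin M.length), ∃ j : Fin M.length, rel M (κ g) i j = true ∧
      ∀ k : Fin M.length, rel M (κ g) i k = true → k = j := by
    intro g i
    obtain ⟨j, hj⟩ := List.length_eq_one_iff.1 ((hok g).1 i i.2)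
    have hjm : j ∈ cands M (κ g) i := by simp [hj]
    rw [cands, List.mem_filter, List.mem_range] at hjm
    refine ⟨⟨j, hjm.1⟩, hjm.2, fun k hk => ?_⟩
    have : (k : ℕ) ∈ cands M (κ g) i := List.mem_filter.2 ⟨List.mem_range.2 k.2, hk⟩
    rw [hj, List.mem_singleton] at this
    exact Fin.ext this
  choose act hact huniq using hex
  have hrel : ∀ {c : ℕ} {i j : ℕ}, rel M c i j = true ↔
      ∀ x < 16, (M.getD j 0).testBit (ap c x) = (M.getD i 0).testBit x := by
    intro c i j
    simp [rel, List.all_eq_true]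
  have hmul : ∀ (g k : L) i, act (g * k) i = act g (act k i) := by
    intro g k i
    refine (huniq _ _ _ (hrel.2 fun x hx => ?_)).symm
    have e : mat (κ (g * k)) = (mat (κ g) * mat (κ k) : M4) := by
      rw [← conj_eq (hκx g), ← conj_eq (hκx k), ← conj_eq (hκx (g * k)), ← Units.val_mul, Subgroup.coe_mul]
      congr 1
      group
    have e' : ap (κ (g * k)) x = ap (κ g) (ap (κ k) x) := wv_inj (F := F) (ap_lt _ _) (ap_lt _ _) (by
      rw [← mat_mulVec, e, ← Matrix.mulVec_mulVec, mat_mulVec, mat_mulVec])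
    rw [e', hrel.1 (hact g (act k i)) _ (ap_lt _ _), hrel.1 (hact k i) x hx]
  have hone : ∀ i, act 1 i = i := by
    intro i
    have e : κ 1 = one := mat_inj (F := F) (spList_lt (hκ 1)) (by decide) (by
      rw [← conj_eq (hκx 1), mat_one]; simp)
    refine (huniq 1 i i (hrel.2 fun x hx => ?_)).symm
    rw [e]
    congr 1
    exact wv_inj (F := F) (ap_lt _ _) hx (by rw [← mat_mulVec, mat_one, Matrix.one_mulVec])
  let toPerm : L → Equiv.Perm (Fin M.length) := fun g =>
    ⟨act g, act g⁻¹, fun i => by rw [← hmul, inv_mul_cancel, hone],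
      fun i => by rw [← hmul, mul_inv_cancel, hone]⟩
  refine ⟨MonoidHom.mk' toPerm fun g k => Equiv.ext fun i => hmul g k i, ?_⟩
  rw [injective_iff_map_eq_one]
  intro g hg
  have hfix : ∀ i : Fin M.length, act g i = i := fun i => Equiv.ext_iff.1 hg i
  have h1 : κ g = one := by
    rcases (hok g).2 with h | h
    · exfalso
      rw [List.all_eq_false] at h
      obtain ⟨i, hi, hne⟩ := h
      rw [List.mem_range] at hi
      exact hne (by have := hact g ⟨i, hi⟩; rwa [hfix] at this)
    · exact h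
  refine Subtype.ext (mul_right_cancel (b := P) (Units.ext ?_))
  rw [Units.val_mul, Units.val_mul, hκx, h1, mat_one, Matrix.mul_one, OneMemClass.coe_one, Units.val_one,
    Matrix.one_mul]

end Cfsg.Agent.Block.SpRootX.Code
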