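import Cfsg.Agent.Lib.Block.SpRootX.Trans

/-!
Four-dimensional symplectic matrices over the field of two elements coded by natural numbers.
-/

set_option autoImplicit false
set_option linter.unusedSectionVars false

namespace Cfsg.Agent.Block.SpRootX.Code

open Matrix Module Cfsg Cfsg.Agent.Classical Cfsg.Agent.Classical.MaxTv

/-- The bit position of a coordinate. -/
def idx : Fin 2 ⊕ Fin 2 → ℕ := Sum.elim ![0, 1] ![2, 3]

/-- The `k`-th column of a code. -/
def col (c k : ℕ) : ℕ := c / 16 ^ (3 - k) % 16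

/-- The code with the given columns. -/
def pack (x₀ x₁ x₂ x₃ : ℕ) : ℕ := ((x₀ * 16 + x₁) * 16 + x₂) * 16 + x₃

/-- The image of a vector. -/
def ap (c x : ℕ) : ℕ :=
  (((if x.testBit 0 then col c 0 else 0) ^^^ (if x.testBit 1 then col c 1 else 0)) ^^^
    (if x.testBit 2 then col c 2 else 0)) ^^^ (if x.testBit 3 then col c 3 else 0)

/-- The product of two codes. -/
def cmp (c d : ℕ) : ℕ := pack (ap c (col d 0)) (ap c (col d 1)) (ap c (col d 2)) (ap c (col d 3))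

/-- The code of the identity. -/
def one : ℕ := pack 1 2 4 8

/-- The alternating form. -/
def fN (x y : ℕ) : Bool :=
  ((x.testBit 0 && y.testBit 2) ^^ (x.testBit 2 && y.testBit 0)) ^^
    ((x.testBit 1 && y.testBit 3) ^^ (x.testBit 3 && y.testBit 1))

/-- The root map. -/
def sgN (p v : ℕ) (t : Bool) (x : ℕ) : ℕ :=
  (x ^^^ (if fN x p then v else 0)) ^^^ (if fN x v ^^ (t && fN x p) then p else 0)

/-- The code of a root map. -/
def sgC (p v : ℕ) (t : Bool) : ℕ := pack (sgN p v t 1) (sgN p v t 2) (sgN p v t 4) (sgN p v t 8)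

/-- All codes of symplectic matrices. -/
def spList : List ℕ :=
  (List.range 16).flatMap fun x₀ => ((List.range 16).filter fun x₁ => !fN x₀ x₁).flatMap fun x₁ =>
    ((List.range 16).filter fun x₂ => fN x₀ x₂ && !fN x₁ x₂).flatMap fun x₂ =>
      ((List.range 16).filter fun x₃ => !fN x₀ x₃ && fN x₁ x₃ && !fN x₂ x₃).map (pack x₀ x₁ x₂)

theorem col_lt (c k : ℕ) : col c k < 16 := Nat.mod_lt _ (by norm_num)

theorem col_pack {x₀ x₁ x₂ x₃ : ℕ} (h₀ : x₀ < 16) (h₁ : x₁ < 16) (h₂ : x₂ < 16) (h₃ : x₃ < 16) :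
    col (pack x₀ x₁ x₂ x₃) 0 = x₀ ∧ col (pack x₀ x₁ x₂ x₃) 1 = x₁ ∧ col (pack x₀ x₁ x₂ x₃) 2 = x₂ ∧
      col (pack x₀ x₁ x₂ x₃) 3 = x₃ := by
  simp only [col, pack, Nat.sub_zero, Nat.reduceSub, Nat.reducePow, pow_zero, pow_one, Nat.div_one]
  omega

theorem ap_lt (c x : ℕ) : ap c x < 16 := by
  have h : ∀ (b : Bool) k, (if b then col c k else 0) < 2 ^ 4 := fun b k => by
    split
    · exact col_lt c k
    · norm_num
  exact Nat.xor_lt_two_pow (Nat.xor_lt_two_pow (Nat.xor_lt_two_pow (h _ _) (h _ _)) (h _ _)) (h _ _)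

theorem mem_spList {x₀ x₁ x₂ x₃ : ℕ} (h₀ : x₀ < 16) (h₁ : x₁ < 16) (h₂ : x₂ < 16) (h₃ : x₃ < 16)
    (f01 : fN x₀ x₁ = false) (f02 : fN x₀ x₂ = true) (f03 : fN x₀ x₃ = false) (f12 : fN x₁ x₂ = false)
    (f13 : fN x₁ x₃ = true) (f23 : fN x₂ x₃ = false) : pack x₀ x₁ x₂ x₃ ∈ spList :=
  List.mem_flatMap.2 ⟨x₀, List.mem_range.2 h₀, List.mem_flatMap.2 ⟨x₁,
    List.mem_filter.2 ⟨List.mem_range.2 h₁, by simp [f01]⟩, List.mem_flatMap.2 ⟨x₂,
    List.mem_filter.2 ⟨List.mem_range.2 h₂, by simp [f02, f12]⟩, List.mem_map.2 ⟨x₃,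
    List.mem_filter.2 ⟨List.mem_range.2 h₃, by simp [f03, f13, f23]⟩, rfl⟩⟩⟩⟩

variable {F : Type*} [Field F] [CharP F 2] [Fintype F]

local notation "V4" => (Fin 2 ⊕ Fin 2 → F)
local notation "M4" => Matrix (Fin 2 ⊕ Fin 2) (Fin 2 ⊕ Fin 2) F

/-- A bit as a scalar. -/
def bit (b : Bool) : F := if b then 1 else 0

theorem bit_xor (b c : Bool) : (bit (b ^^ c) : F) = bit b + bit c := by
  cases b <;> cases c <;> simp [bit, CharTwo.add_self_eq_zero]

theorem bit_and (b c : Bool) : (bit (b && c) : F) = bit b * bit c := by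
  cases b <;> cases c <;> simp [bit]

theorem bit_inj {b c : Bool} (h : (bit b : F) = bit c) : b = c := by
  cases b <;> cases c <;> simp [bit] at h ⊢

theorem exists_bit (hF : Fintype.card F = 2) (z : F) : ∃ b, z = bit b := by
  classical
  by_contra hcon
  push Not at hcon
  have h0 : z ≠ 0 := fun e => hcon false (by simp [bit, e])
  have h1 : z ≠ 1 := fun e => hcon true (by simp [bit, e])
  have := Finset.card_le_univ ({0, 1, z} : Finset F)
  rw [hF, Finset.card_insert_of_notMem (by simp [h0.symm]), Finset.card_pair h1.symm] at this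
  omega

/-- The vector of a number. -/
def wv (x : ℕ) : V4 := fun i => bit (x.testBit (idx i))

theorem wv_zero : (wv 0 : V4) = 0 := funext fun i => by simp [wv, bit]

theorem wv_xor (x y : ℕ) : (wv (x ^^^ y) : V4) = wv x + wv y :=
  funext fun i => by simp [wv, Nat.testBit_xor, bit_xor]

theorem wv_ite (b : Bool) (x : ℕ) : (wv (if b then x else 0) : V4) = (bit b : F) • (wv x : V4) := by
  cases b <;> simp [bit, wv_zero]

theorem wv_inj {x y : ℕ} (hx : x < 16) (hy : y < 16) (h : (wv x : V4) = wv y) : x = y := by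
  refine Nat.eq_of_testBit_eq fun k => ?_
  by_cases hk : k < 4
  · have h0 := bit_inj (congrFun h (Sum.inl 0))
    have h1 := bit_inj (congrFun h (Sum.inl 1))
    have h2 := bit_inj (congrFun h (Sum.inr 0))
    have h3 := bit_inj (congrFun h (Sum.inr 1))
    simp only [idx, Sum.elim_inl, Sum.elim_inr, Matrix.cons_val_zero, Matrix.cons_val_one] at h0 h1 h2 h3
    interval_cases k <;> assumption
  · rw [Nat.testBit_lt_two_pow (lt_of_lt_of_le hx (show 16 ≤ 2 ^ k from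
        (Nat.pow_le_pow_right (by norm_num) (show 4 ≤ k by omega) : 2 ^ 4 ≤ 2 ^ k))),
      Nat.testBit_lt_two_pow (lt_of_lt_of_le hy (show 16 ≤ 2 ^ k from
        (Nat.pow_le_pow_right (by norm_num) (show 4 ≤ k by omega) : 2 ^ 4 ≤ 2 ^ k)))]

theorem wv_surj (hF : Fintype.card F = 2) (v : V4) : ∃ x < 16, v = wv x := by
  obtain ⟨b₀, h₀⟩ := exists_bit hF (v (Sum.inl 0))
  obtain ⟨b₁, h₁⟩ := exists_bit hF (v (Sum.inl 1))
  obtain ⟨b₂, h₂⟩ := exists_bit hF (v (Sum.inr 0))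
  obtain ⟨b₃, h₃⟩ := exists_bit hF (v (Sum.inr 1))
  refine ⟨(cond b₀ 1 0) + (cond b₁ 2 0) + (cond b₂ 4 0) + (cond b₃ 8 0), ?_, ?_⟩
  · cases b₀ <;> cases b₁ <;> cases b₂ <;> cases b₃ <;> decide
  · funext i
    rcases i with i | i <;> fin_cases i
    all_goals simp [wv, idx, h₀, h₁, h₂, h₃]
    all_goals cases b₀ <;> cases b₁ <;> cases b₂ <;> cases b₃ <;> rfl

/-- The matrix of a code. -/
def mat (c : ℕ) : M4 := fun i j => wv (col c (idx j)) i

theorem mat_mulVec (c x : ℕ) : (mat c : M4) *ᵥ wv x = wv (ap c x) := by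
  simp only [ap, wv_xor, wv_ite]
  funext i
  simp only [Matrix.mulVec, dotProduct, mat, Fintype.sum_sum_type, Fin.sum_univ_two, Pi.add_apply,
    Pi.smul_apply, smul_eq_mul, wv, idx, Sum.elim_inl, Sum.elim_inr, Matrix.cons_val_zero, Matrix.cons_val_one]
  ring

theorem wv_single (j : Fin 2 ⊕ Fin 2) : (wv (2 ^ idx j) : V4) = Pi.single j 1 := by
  funext i
  rcases i with i | i <;> rcases j with j | j <;> fin_cases i <;> fin_cases j <;>
    simp [wv, idx, bit, Nat.testBit_eq_decide_div_mod_eq]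

theorem mat_col (c : ℕ) (j : Fin 2 ⊕ Fin 2) : (mat c : M4) *ᵥ Pi.single j 1 = wv (col c (idx j)) :=
  funext fun i => by simp [mat]

theorem mat_ext {M : M4} {c : ℕ} (h : ∀ j, M *ᵥ Pi.single j 1 = wv (col c (idx j))) : M = mat c := by
  funext i j
  have := congrFun (h j) i
  simpa [mat] using this

theorem mat_cmp (c d : ℕ) : (mat (cmp c d) : M4) = mat c * mat d := by
  refine (mat_ext fun j => ?_).symm
  rw [← Matrix.mulVec_mulVec, mat_col, mat_mulVec]
  obtain ⟨e0, e1, e2, e3⟩ := col_pack (ap_lt c (col d 0)) (ap_lt c (col d 1)) (ap_lt c (col d 2)) (ap_lt c (col d 3))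
  rcases j with j | j <;> fin_cases j <;> simp [cmp, idx, e0, e1, e2, e3]

theorem mat_one : (mat one : M4) = 1 := by
  refine (mat_ext fun j => ?_).symm
  rw [Matrix.one_mulVec, ← wv_single]
  congr 1
  rcases j with j | j <;> fin_cases j <;> rfl

theorem sympB_wv (x y : ℕ) : sympB 2 F (wv x : V4) (wv y) = bit (fN x y) := by
  rw [sympB_apply, sympForm, fN]
  simp only [bit_xor, bit_and, Matrix.J, dotProduct, Matrix.mulVec, Fintype.sum_sum_type, Fin.sum_univ_two, wv,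
    idx, Sum.elim_inl, Sum.elim_inr, Matrix.cons_val_zero, Matrix.cons_val_one, Matrix.fromBlocks_apply₁₁,
    Matrix.fromBlocks_apply₁₂, Matrix.fromBlocks_apply₂₁, Matrix.fromBlocks_apply₂₂, Matrix.zero_apply,
    Matrix.one_apply, Matrix.neg_apply, CharTwo.neg_eq]
  simp
  ring

theorem wv_sgN (p v : ℕ) (t : Bool) (x : ℕ) :
    (wv (sgN p v t x) : V4) = sg (sympB 2 F) (wv p) (wv v) (bit t) (wv x) := by
  simp only [sgN, wv_xor, wv_ite, sg, sympB_wv, bit_xor, bit_and]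

theorem sgN_lt {p v x : ℕ} (hp : p < 16) (hv : v < 16) (hx : x < 16) (t : Bool) : sgN p v t x < 16 := by
  refine Nat.xor_lt_two_pow (n := 4) (Nat.xor_lt_two_pow (n := 4) hx ?_) ?_ <;> split <;>
    first
      | assumption
      | norm_num

/-- A root map is the matrix of its code. -/
theorem mat_sgC {p v : ℕ} (hp : p < 16) (hv : v < 16) (t : Bool) (z : V4) :
    (mat (sgC p v t) : M4) *ᵥ z = sg (sympB 2 F) (wv p) (wv v) (bit t) z := by
  obtain ⟨e0, e1, e2, e3⟩ := col_pack (sgN_lt hp hv (show 1 < 16 by norm_num) t)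
    (sgN_lt hp hv (show 2 < 16 by norm_num) t) (sgN_lt hp hv (show 4 < 16 by norm_num) t)
    (sgN_lt hp hv (show 8 < 16 by norm_num) t)
  have key : ∀ j : Fin 2 ⊕ Fin 2, (mat (sgC p v t) : M4) *ᵥ Pi.single j 1 =
      sg (sympB 2 F) (wv p) (wv v) (bit t) (Pi.single j 1) := fun j => by
    rw [mat_col, ← wv_single, ← wv_sgN]
    congr 1
    rcases j with j | j <;> fin_cases j <;> simp [sgC, idx, e0, e1, e2, e3]
  have hz : z = ∑ j, z j • (Pi.single j (1 : F) : V4) := by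
    funext i; simp [Finset.sum_apply, Pi.single_apply]
  rw [hz, Matrix.mulVec_sum]
  simp only [Matrix.mulVec_smul, key, sg, map_sum, map_smul, LinearMap.sum_apply, LinearMap.smul_apply,
    Finset.sum_add_distrib, smul_eq_mul, Finset.sum_smul, smul_add, add_smul, mul_smul, Finset.smul_sum]
  congr 2
  exact Finset.sum_congr rfl fun x _ => smul_comm _ _ _

/-- Every symplectic matrix is the matrix of a listed code. -/
theorem exists_code (hF : Fintype.card F = 2) (M : M4)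
    (hM : ∀ x y, sympB 2 F (M *ᵥ x) (M *ᵥ y) = sympB 2 F x y) : ∃ c ∈ spList, M = mat c := by
  obtain ⟨x₀, h₀, e₀⟩ := wv_surj hF (M *ᵥ Pi.single (Sum.inl 0) 1)
  obtain ⟨x₁, h₁, e₁⟩ := wv_surj hF (M *ᵥ Pi.single (Sum.inl 1) 1)
  obtain ⟨x₂, h₂, e₂⟩ := wv_surj hF (M *ᵥ Pi.single (Sum.inr 0) 1)
  obtain ⟨x₃, h₃, e₃⟩ := wv_surj hF (M *ᵥ Pi.single (Sum.inr 1) 1)
  have hf : ∀ i j x y, M *ᵥ Pi.single i 1 = wv x → M *ᵥ Pi.single j 1 = wv y →
      fN x y = fN (2 ^ idx i) (2 ^ idx j) := fun i j x y hx hy => bit_inj (F := F) (by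
    rw [← sympB_wv, ← hx, ← hy, hM, ← wv_single i, ← wv_single j, sympB_wv])
  refine ⟨pack x₀ x₁ x₂ x₃, mem_spList h₀ h₁ h₂ h₃ ((hf _ _ _ _ e₀ e₁).trans (by decide))
    ((hf _ _ _ _ e₀ e₂).trans (by decide)) ((hf _ _ _ _ e₀ e₃).trans (by decide))
    ((hf _ _ _ _ e₁ e₂).trans (by decide)) ((hf _ _ _ _ e₁ e₃).trans (by decide))
    ((hf _ _ _ _ e₂ e₃).trans (by decide)), mat_ext fun j => ?_⟩
  obtain ⟨c0, c1, c2, c3⟩ := col_pack h₀ h₁ h₂ h₃
  rcases j with j | j <;> fin_cases j <;>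
    first
      | simpa [idx, c0, c1, c2, c3] using e₀
      | simpa [idx, c0, c1, c2, c3] using e₁
      | simpa [idx, c0, c1, c2, c3] using e₂
      | simpa [idx, c0, c1, c2, c3] using e₃

/-- Codes of matrices are unique on the list. -/
theorem pack_cols {c : ℕ} (hc : c < 65536) : pack (col c 0) (col c 1) (col c 2) (col c 3) = c := by
  simp only [col, pack, Nat.sub_zero, Nat.reduceSub, Nat.reducePow, pow_zero, pow_one, Nat.div_one]
  omega

theorem mat_inj {c d : ℕ} (hc : c < 65536) (hd : d < 65536) (h : (mat c : M4) = mat d) : c = d := by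
  have e : ∀ j : Fin 2 ⊕ Fin 2, col c (idx j) = col d (idx j) := fun j =>
    wv_inj (F := F) (col_lt _ _) (col_lt _ _) (by rw [← mat_col, ← mat_col, h])
  rw [← pack_cols hc, ← pack_cols hd]
  have e0 := e (Sum.inl 0)
  have e1 := e (Sum.inl 1)
  have e2 := e (Sum.inr 0)
  have e3 := e (Sum.inr 1)
  simp only [idx, Sum.elim_inl, Sum.elim_inr, Matrix.cons_val_zero, Matrix.cons_val_one] at e0 e1 e2 e3
  rw [e0, e1, e2, e3]

theorem pack_lt {x₀ x₁ x₂ x₃ : ℕ} (h₀ : x₀ < 16) (h₁ : x₁ < 16) (h₂ : x₂ < 16) (h₃ : x₃ < 16) :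
    pack x₀ x₁ x₂ x₃ < 65536 := by
  simp only [pack]; omega

theorem cmp_lt (c d : ℕ) : cmp c d < 65536 := pack_lt (ap_lt _ _) (ap_lt _ _) (ap_lt _ _) (ap_lt _ _)

theorem spList_lt {c : ℕ} (h : c ∈ spList) : c < 65536 := by
  simp only [spList, List.mem_flatMap, List.mem_filter, List.mem_range, List.mem_map] at h
  obtain ⟨x₀, h₀, x₁, ⟨h₁, -⟩, x₂, ⟨h₂, -⟩, x₃, ⟨h₃, -⟩, rfl⟩ := h
  exact pack_lt h₀ h₁ h₂ h₃

end Cfsg.Agent.Block.SpRootX.Code
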