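import Cfsg.Agent.Lib.Block.SpRootX.Data

/-!
The four-dimensional case over the field of two elements, by word certificates.
-/

set_option autoImplicit false
set_option linter.unusedSectionVars false

namespace Cfsg.Agent.Block.SpRootX.Code

open Matrix Module Cfsg Cfsg.Agent.Classical Cfsg.Agent.Classical.MaxTv

variable {F : Type*} [Field F] [CharP F 2] [Fintype F]
  {P : GL (Fin 2 ⊕ Fin 2) F} {L : Subgroup (GL (Fin 2 ⊕ Fin 2) F)}

local notation "V4" => (Fin 2 ⊕ Fin 2 → F)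
local notation "M4" => Matrix (Fin 2 ⊕ Fin 2) (Fin 2 ⊕ Fin 2) F
local notation "GL4" => GL (Fin 2 ⊕ Fin 2) F

theorem iso_of_mem {g : GL4} (hg : g ∈ spGL 2 F) (x y : V4) :
    sympB 2 F ((g : M4) *ᵥ x) ((g : M4) *ᵥ y) = sympB 2 F x y := by
  rw [sympB_apply, sympB_apply]
  exact mem_spGL.1 hg x y

theorem move_eq {g : GL4} {c : ℕ} (h : (g : M4) * (P : M4) = (P : M4) * mat c) (z : V4) :
    (g : M4) *ᵥ ((P : M4) *ᵥ z) = (P : M4) *ᵥ ((mat c : M4) *ᵥ z) := by
  rw [Matrix.mulVec_mulVec, h, ← Matrix.mulVec_mulVec]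

theorem eq_image (z : V4) : ∃ w, z = (P : M4) *ᵥ w :=
  ⟨((P⁻¹ : GL4) : M4) *ᵥ z, by
    rw [Matrix.mulVec_mulVec, ← Units.val_mul, mul_inv_cancel, Units.val_one, Matrix.one_mulVec]⟩

theorem sg_image (hP : P ∈ spGL 2 F) (p v : V4) (t : F) (z : V4) :
    sg (sympB 2 F) ((P : M4) *ᵥ p) ((P : M4) *ᵥ v) t ((P : M4) *ᵥ z) = (P : M4) *ᵥ sg (sympB 2 F) p v t z := by
  simp only [sg, iso_of_mem hP, Matrix.mulVec_add, Matrix.mulVec_smul]

theorem inC_of_InL (hP : P ∈ spGL 2 F) {p v : ℕ} (hp : p < 16) (hv : v < 16) {t : Bool}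
    (h : InL (sympB 2 F) L ((P : M4) *ᵥ wv p) ((P : M4) *ᵥ wv v) (bit t)) : InC P L (sgC p v t) := by
  obtain ⟨g, hg, hgx⟩ := h
  refine ⟨g, hg, Matrix.ext_iff_mulVec.2 fun z => ?_⟩
  rw [← Matrix.mulVec_mulVec, ← Matrix.mulVec_mulVec, hgx, sg_image hP, mat_sgC hp hv]

theorem InL_of_inC (hP : P ∈ spGL 2 F) {p v : ℕ} (hp : p < 16) (hv : v < 16) {t : Bool}
    (h : InC P L (sgC p v t)) : InL (sympB 2 F) L ((P : M4) *ᵥ wv p) ((P : M4) *ᵥ wv v) (bit t) := by
  obtain ⟨g, hg, hgx⟩ := h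
  refine ⟨g, hg, fun z => ?_⟩
  obtain ⟨w, rfl⟩ := eq_image (P := P) z
  rw [sg_image hP, move_eq hgx, mat_sgC hp hv]

/-- The transported quadratic form. -/
theorem exists_form (hP : P ∈ spGL 2 F) (m : Bool) : ∃ Q : QuadraticForm F V4,
    (∀ x y, QuadraticMap.polar ⇑Q x y = sympB 2 F x y) ∧ ∀ x, Q ((P : M4) *ᵥ wv x) = bit (qN m x) := by
  let q : V4 → F := fun z => z (Sum.inl 0) * z (Sum.inr 0) + z (Sum.inl 1) * z (Sum.inr 1) +
    bit m * (z (Sum.inl 1) * z (Sum.inl 1) + z (Sum.inr 1) * z (Sum.inr 1))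
  have hq : ∀ z w, q (z + w) = q z + q w + sympB 2 F z w := fun z w => by
    have h2 := CharTwo.two_eq_zero (R := F)
    rw [sympB_apply, sympForm]
    simp only [q, Matrix.J, dotProduct, Matrix.mulVec, Fintype.sum_sum_type, Fin.sum_univ_two, Pi.add_apply,
      Matrix.fromBlocks_apply₁₁, Matrix.fromBlocks_apply₁₂, Matrix.fromBlocks_apply₂₁, Matrix.fromBlocks_apply₂₂,
      Matrix.zero_apply, Matrix.one_apply, Matrix.neg_apply]
    simp [CharTwo.neg_eq]
    grind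
  let i : V4 → V4 := fun z => ((P⁻¹ : GL4) : M4) *ᵥ z
  have hi : ∀ x y, sympB 2 F (i x) (i y) = sympB 2 F x y := fun x y => iso_of_mem (inv_mem hP) x y
  have hadd : ∀ x y, q (i (x + y)) = q (i x) + q (i y) + sympB 2 F x y := fun x y => by
    rw [show i (x + y) = i x + i y from Matrix.mulVec_add _ _ _, hq, hi]
  refine ⟨QuadraticMap.ofPolar (fun z => q (i z))
    (fun c x => by simp only [q, i, Matrix.mulVec_smul, Pi.smul_apply, smul_eq_mul]; ring)
    (fun x x' y => by simp only [QuadraticMap.polar, hadd, map_add, LinearMap.add_apply]; ring)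
    (fun c x y => by simp only [QuadraticMap.polar, hadd, map_smul, LinearMap.smul_apply, smul_eq_mul]; ring),
    fun x y => ?_, fun x => ?_⟩
  · show (fun z => q (i z)) (x + y) - q (i x) - q (i y) = _
    simp only [hadd]
    ring
  · show q (((P⁻¹ : GL4) : M4) *ᵥ ((P : M4) *ᵥ wv x)) = _
    rw [Matrix.mulVec_mulVec, ← Units.val_mul, inv_mul_cancel, Units.val_one, Matrix.one_mulVec]
    simp [q, qN, wv, idx, bit_xor, bit_and]
    rcases x.testBit 1 <;> rcases x.testBit 3 <;> cases m <;> simp [bit, CharTwo.add_self_eq_zero]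

theorem natCard_range (hF : Fintype.card F = 2) {g : GL4} {c : ℕ}
    (h : (g : M4) * (P : M4) = (P : M4) * mat c) :
    2 ^ ((g : M4) - 1).rank = numMoved c := by
  classical
  have hsub : ∀ x, ((g : M4) - 1) *ᵥ ((P : M4) *ᵥ wv x) = (P : M4) *ᵥ wv (ap c x ^^^ x) := fun x => by
    rw [Matrix.sub_mulVec, Matrix.one_mulVec, move_eq h, mat_mulVec, wv_xor, Matrix.mulVec_add]
    funext i
    simp [CharTwo.sub_eq_add]
  have hset : (LinearMap.range ((g : M4) - 1).mulVecLin : Set V4) =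
      (((List.range 16).filter fun y => (moved c).contains y).toFinset.image fun y => (P : M4) *ᵥ wv y : Finset V4) := by
    ext z
    simp only [SetLike.mem_coe, LinearMap.mem_range, Finset.coe_image, Set.mem_image, List.mem_toFinset,
      List.mem_filter, List.mem_range, moved, List.contains_iff_mem, List.mem_map, Matrix.mulVecLin_apply]
    constructor
    · rintro ⟨y, rfl⟩
      obtain ⟨w, rfl⟩ := eq_image (P := P) y
      obtain ⟨x, hx, rfl⟩ := wv_surj hF w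
      exact ⟨_, ⟨Nat.xor_lt_two_pow (n := 4) (ap_lt c x) hx, x, hx, rfl⟩, (hsub x).symm⟩
    · rintro ⟨y, ⟨hy, x, hx, rfl⟩, rfl⟩
      exact ⟨_, hsub x⟩
  have h1 := congrArg Set.ncard hset
  rw [Set.ncard_coe_finset, Finset.card_image_of_injOn (fun x hx y hy e => by
    simp only [List.coe_toFinset, Set.mem_setOf_eq, List.mem_filter, List.mem_range] at hx hy
    exact wv_inj (F := F) hx.1 hy.1 (by
      have := congrArg (fun z => ((P⁻¹ : GL4) : M4) *ᵥ z) e
      simpa [Matrix.mulVec_mulVec, ← Units.val_mul] using this)),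
    List.toFinset_card_of_nodup (List.nodup_range.filter _)] at h1
  rw [numMoved, ← h1, ← Nat.card_coe_set_eq, Matrix.rank]
  exact ((Module.natCard_eq_pow_finrank (K := F)).trans (by rw [Nat.card_eq_fintype_card, hF]; rfl)).symm

theorem even_rank (hF : Fintype.card F = 2) {g : GL4} {c : ℕ}
    (h : (g : M4) * (P : M4) = (P : M4) * mat c) :
    Even ((g : M4) - 1).rank ↔ evenR c = true := by
  have h1 := natCard_range hF h
  have h2 : ((g : M4) - 1).rank ≤ 4 := ((g : M4) - 1).rank_le_card_width.trans (by simp)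
  simp only [evenR, Bool.or_eq_true, beq_iff_eq, ← h1]
  interval_cases ((g : M4) - 1).rank <;> decide

variable {Q : QuadraticForm F (Fin 2 ⊕ Fin 2 → F)} {m : Bool}

theorem mem_iso_iff (hF : Fintype.card F = 2) (hQ : ∀ x, Q ((P : M4) *ᵥ wv x) = bit (qN m x)) {g : GL4}
    {c : ℕ} (h : (g : M4) * (P : M4) = (P : M4) * mat c) :
    g ∈ isometryGroup F ⇑Q ↔ isoN m c = true := by
  rw [mem_isometryGroup]
  simp only [isoN, List.all_eq_true, List.mem_range, beq_iff_eq]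
  constructor
  · intro hg x hx
    refine bit_inj (F := F) ?_
    rw [← hQ, ← hQ, ← mat_mulVec, ← move_eq h, hg]
  · intro hc z
    obtain ⟨w, rfl⟩ := eq_image (P := P) z
    obtain ⟨x, hx, rfl⟩ := wv_surj hF w
    rw [move_eq h, mat_mulVec, hQ, hQ, hc x hx]

theorem iso_le_sp (hpol : ∀ x y, QuadraticMap.polar ⇑Q x y = sympB 2 F x y) :
    isometryGroup F ⇑Q ≤ spGL 2 F := fun g hg => mem_spGL.2 fun x y => by
  rw [← sympB_apply, ← sympB_apply, ← hpol, ← hpol]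
  simp only [QuadraticMap.polar, ← Matrix.mulVec_add, mem_isometryGroup.1 hg]

theorem mem_iff_flag (hF : Fintype.card F = 2) (hP : P ∈ spGL 2 F) (hL : L ≤ spGL 2 F)
    {T : List (ℕ × ℕ)} (hfst : T.map Prod.fst = spList) {f : ℕ → Bool}
    (hmem : ∀ p ∈ T, InC P L p.1 ↔ f p.1 = true) {g : GL4} (hg : g ∈ spGL 2 F) {c : ℕ}
    (h : (g : M4) * (P : M4) = (P : M4) * mat c) (hc : c ∈ spList) : g ∈ L ↔ f c = true := by
  obtain ⟨p, hp, rfl⟩ := List.mem_map.1 (hfst ▸ hc : c ∈ T.map Prod.fst)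
  rw [← hmem p hp]
  refine ⟨fun hgL => ⟨g, hgL, h⟩, fun ⟨k, hk, hkx⟩ => ?_⟩
  have e : k = g := mul_right_cancel (b := P) (Units.ext (by rw [Units.val_mul, Units.val_mul, h, hkx]))
  exact e ▸ hk

theorem kernel_eq (hF : Fintype.card F = 2) (hP : P ∈ spGL 2 F) (hL : L ≤ spGL 2 F)
    (hpol : ∀ x y, QuadraticMap.polar ⇑Q x y = sympB 2 F x y) (hQ : ∀ x, Q ((P : M4) *ᵥ wv x) = bit (qN m x))
    {T : List (ℕ × ℕ)} (hfst : T.map Prod.fst = spList)
    (hmem : ∀ p ∈ T, InC P L p.1 ↔ (isoN m p.1 && evenR p.1) = true) :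
    ∀ g : GL4, g ∈ L ↔ (g ∈ isometryGroup F ⇑Q ∧ Even ((g : M4) - 1).rank) := by
  intro g
  by_cases hg : g ∈ spGL 2 F
  · obtain ⟨c, hc, h⟩ := exists_of_mem (L := spGL 2 F) hF hP le_rfl hg
    rw [mem_iff_flag (f := fun c => isoN m c && evenR c) hF hP hL hfst hmem hg h hc, mem_iso_iff hF hQ h,
      even_rank hF h, Bool.and_eq_true]
  · exact ⟨fun h => absurd (hL h) hg, fun h => absurd (iso_le_sp hpol h.1) hg⟩

theorem full_eq (hF : Fintype.card F = 2) (hP : P ∈ spGL 2 F) (hL : L ≤ spGL 2 F)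
    (hpol : ∀ x y, QuadraticMap.polar ⇑Q x y = sympB 2 F x y) (hQ : ∀ x, Q ((P : M4) *ᵥ wv x) = bit (qN m x))
    {T : List (ℕ × ℕ)} (hfst : T.map Prod.fst = spList)
    (hmem : ∀ p ∈ T, InC P L p.1 ↔ isoN m p.1 = true) : L = isometryGroup F ⇑Q := by
  ext g
  by_cases hg : g ∈ spGL 2 F
  · obtain ⟨c, hc, h⟩ := exists_of_mem (L := spGL 2 F) hF hP le_rfl hg
    rw [mem_iff_flag (f := isoN m) hF hP hL hfst hmem hg h hc, mem_iso_iff hF hQ h]
  · exact ⟨fun h => absurd (hL h) hg, fun h => absurd (iso_le_sp hpol h) hg⟩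

theorem sel_true_false (t : ℕ) : sel true false t = ((tag t == 0) || (tag t == 1)) := by simp [sel]

theorem sel_false_false (t : ℕ) : sel false false t = (tag t == 0) := by simp [sel]

theorem iso_perm {k n : ℕ} (f : L →* Equiv.Perm (Fin k)) (hf : Function.Injective f) (hn : Nat.card L = n)
    (hk : n = k.factorial) : Nonempty (L ≃* Equiv.Perm (Fin k)) := by
  classical
  haveI : Finite L := Finite.of_injective f hf
  refine ⟨MulEquiv.ofBijective f (hf.bijective_of_nat_card_le ?_)⟩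
  rw [hn, hk, Nat.card_eq_fintype_card, Fintype.card_perm, Fintype.card_fin]

theorem iso_alt (f : L →* Equiv.Perm (Fin 6)) (hf : Function.Injective f) (hn : Nat.card L = 360) :
    Nonempty (L ≃* alternatingGroup (Fin 6)) := by
  classical
  have e := MonoidHom.ofInjective hf
  have h6 : Nat.card (Equiv.Perm (Fin 6)) = 720 := by
    rw [Nat.card_eq_fintype_card, Fintype.card_perm, Fintype.card_fin]; rfl
  have hi : f.range.index = 2 := by
    have h := f.range.index_mul_card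
    rw [← Nat.card_congr e.toEquiv, hn, h6] at h
    omega
  exact ⟨e.trans (MulEquiv.subgroupCongr (Equiv.Perm.eq_alternatingGroup_of_index_eq_two hi))⟩

theorem classes {G : List ℕ} {r₁ r₂ : ℕ} {T : List (ℕ × ℕ)} (hT : T.all (okCert G r₁ r₂) = true)
    (hG : ∀ c ∈ G, InC P L c) (htA : ¬InC P L tA) :
    ∃ b₁ b₂ : Bool, (∀ p ∈ T, InC P L p.1 ↔ sel b₁ b₂ p.2 = true) ∧ (b₁ = true → InC P L r₁) ∧
      (b₂ = true → InC P L r₂) := by
  classical
  exact ⟨decide (InC P L r₁), decide (InC P L r₂), fun p hp => class_mem hT hG htA hp, of_decide_eq_true,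
    of_decide_eq_true⟩

theorem chosen_data (hF : Fintype.card F = 2) (hP : P ∈ spGL 2 F) (hL : L ≤ spGL 2 F)
    {T : List (ℕ × ℕ)} (hfst : T.map Prod.fst = spList) {b₁ b₂ : Bool}
    (cls : ∀ p ∈ T, InC P L p.1 ↔ sel b₁ b₂ p.2 = true) (M : List ℕ) {n : ℕ}
    (hM : (chosen T b₁ b₂).all (permOK M) = true) (hlen : (chosen T b₁ b₂).length = n)
    (hnd : (chosen T b₁ b₂).Nodup) :
    Nat.card L = n ∧ ∃ f : L →* Equiv.Perm (Fin M.length), Function.Injective f := by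
  have hS : ∀ c ∈ spList, (InC P L c ↔ c ∈ chosen T b₁ b₂) := by
    intro c hc
    constructor
    · intro h
      obtain ⟨p, hp, rfl⟩ := List.mem_map.1 (hfst ▸ hc : c ∈ T.map Prod.fst)
      exact List.mem_map.2 ⟨p, List.mem_filter.2 ⟨hp, (cls p hp).1 h⟩, rfl⟩
    · intro h
      obtain ⟨p, hp, rfl⟩ := List.mem_map.1 h
      rw [List.mem_filter] at hp
      exact (cls p hp.1).2 hp.2
  have hsub : ∀ c ∈ chosen T b₁ b₂, c ∈ spList := fun c hc => by
    obtain ⟨p, hp, rfl⟩ := List.mem_map.1 hc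
    exact hfst ▸ List.mem_map.2 ⟨p, (List.mem_filter.1 hp).1, rfl⟩
  exact ⟨hlen ▸ natCard_eq hF hP hL hS hsub hnd,
    exists_perm_hom hF hP hL M fun c hc h => List.all_eq_true.1 hM c ((hS c hc).1 h)⟩

/-- The five cases. -/
theorem classify_code (hF : Fintype.card F = 2) (hP : P ∈ spGL 2 F) (hL : L ≤ spGL 2 F) {p₁ p₂ q₁ q₂ : Bool}
    (hG : ∀ c ∈ gensN p₁ p₂ q₁ q₂, InC P L c) (htA : ¬InC P L tA)
    (hcan : (p₁, p₂, q₁, q₂) ∈ [(true, true, true, true), (false, false, false, false), (false, false, true, false),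
      (true, true, false, false), (false, false, true, true)]) :
    (∃ Q : QuadraticForm F V4, (∀ x y, QuadraticMap.polar ⇑Q x y = sympB 2 F x y) ∧
      (L = isometryGroup F ⇑Q ∨ ∀ g : GL4, g ∈ L ↔ (g ∈ isometryGroup F ⇑Q ∧ Even ((g : M4) - 1).rank))) ∨
      Nonempty (L ≃* alternatingGroup (Fin 6)) ∨ Nonempty (L ≃* Equiv.Perm (Fin 5)) := by
  classical
  have word : ∀ w, ev (one :: gensN p₁ p₂ q₁ q₂) w = tA → False := fun w hw =>
    htA (hw ▸ InC.ev hG InC.one' w)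
  simp only [List.mem_cons, List.not_mem_nil, or_false, Prod.mk.injEq] at hcan
  rcases hcan with ⟨rfl, rfl, rfl, rfl⟩ | ⟨rfl, rfl, rfl, rfl⟩ | ⟨rfl, rfl, rfl, rfl⟩ | ⟨rfl, rfl, rfl, rfl⟩ |
    ⟨rfl, rfl, rfl, rfl⟩
  · obtain ⟨b₁, b₂, cls, h₁, h₂⟩ := classes tabMM_ok hG htA
    cases b₁ <;> cases b₂
    · obtain ⟨Q, hpol, hQ⟩ := exists_form hP true
      refine Or.inl ⟨Q, hpol, Or.inr (kernel_eq hF hP hL hpol hQ tabMM_fst fun p hp => ?_)⟩
      rw [cls p hp, sel_false_false, ← beq_iff_eq.1 (List.all_eq_true.1 tabMM_kernel p hp)]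
    · obtain ⟨hn, f, hf⟩ := chosen_data hF hP hL tabMM_fst cls formsM tabMM_perm tabMM_len tabMM_nodup
      exact Or.inr (Or.inl (iso_alt f hf hn))
    · obtain ⟨Q, hpol, hQ⟩ := exists_form hP true
      refine Or.inl ⟨Q, hpol, Or.inl (full_eq hF hP hL hpol hQ tabMM_fst fun p hp => ?_)⟩
      rw [cls p hp, ← beq_iff_eq.1 (List.all_eq_true.1 tabMM_iso p hp)]
    · exact (htA (both_MM ▸ InC.ev (List.forall_mem_cons.2 ⟨h₂ rfl, hG⟩) (h₁ rfl) _)).elim
  · obtain ⟨b₁, b₂, cls, h₁, h₂⟩ := classes tabPP_ok hG htA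
    obtain ⟨Q, hpol, hQ⟩ := exists_form hP false
    have hb : ∀ p ∈ tabPP, sel b₁ b₂ p.2 = sel b₁ false p.2 := fun p hp => by
      have := List.all_eq_true.1 tabPP_two p hp
      simp only [Bool.not_eq_true', beq_eq_false_iff_ne] at this
      simp [sel, beq_eq_false_iff_ne.2 this]
    refine Or.inl ⟨Q, hpol, ?_⟩
    cases b₁
    · refine Or.inr (kernel_eq hF hP hL hpol hQ tabPP_fst fun p hp => ?_)
      rw [cls p hp, hb p hp, sel_false_false, ← beq_iff_eq.1 (List.all_eq_true.1 tabPP_kernel p hp)]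
    · refine Or.inl (full_eq hF hP hL hpol hQ tabPP_fst fun p hp => ?_)
      rw [cls p hp, hb p hp, ← beq_iff_eq.1 (List.all_eq_true.1 tabPP_iso p hp)]
  · obtain ⟨b₁, b₂, cls, h₁, h₂⟩ := classes tabPQ_ok hG htA
    have cls' : ∀ p ∈ tabPQ, InC P L p.1 ↔ sel false false p.2 = true := fun p hp => by
      rw [cls p hp]
      have := List.all_eq_true.1 tabPQ_two p hp
      simp only [Bool.or_eq_true, beq_iff_eq] at this
      rcases this with e | e <;> simp [sel, e]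
    obtain ⟨hn, f, hf⟩ := chosen_data hF hP hL tabPQ_fst cls' linesM tabPQ_perm tabPQ_len tabPQ_nodup
    exact Or.inr (Or.inr (iso_perm f hf hn (by decide)))
  · exact (word _ word_MP).elim
  · exact (word _ word_PM).elim

/-- The normalised bits. -/
def Bits (L : Subgroup GL4) (φ ψ : V4 → F) (a b e f : V4) (p₁ p₂ q₁ q₂ : Bool) : Prop :=
  (InW (sympB 2 F) a b e ∧ InW (sympB 2 F) a b f ∧ sympB 2 F e f = 1) ∧ φ e = bit p₁ ∧ φ f = bit p₂ ∧
    ψ e = bit q₁ ∧ ψ f = bit q₂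

/-- The four-dimensional case over two elements. -/
theorem small {a : V4} {φ : V4 → F} (hF : Fintype.card F = 2) (h : Hyp (sympB 2 F) L a φ) (hL : L ≤ spGL 2 F)
    (hU : ∀ e : F, InL (sympB 2 F) L a 0 e → e = 0) :
    (∃ Q : QuadraticForm F V4, (∀ x y, QuadraticMap.polar ⇑Q x y = sympB 2 F x y) ∧
      (L = isometryGroup F ⇑Q ∨ ∀ g : GL4, g ∈ L ↔ (g ∈ isometryGroup F ⇑Q ∧ Even ((g : M4) - 1).rank))) ∨
      Nonempty (L ≃* alternatingGroup (Fin 6)) ∨ Nonempty (L ≃* Equiv.Perm (Fin 5)) := by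
  classical
  have halt := h.alt
  have h4 : 4 ≤ Fintype.card (Fin 2 ⊕ Fin 2) := by simp
  obtain ⟨b, hb, hab⟩ := h.exists_partner
  have hba : sympB 2 F b a = 1 := by rw [B_swap halt]; exact hab
  have hbU : ∀ e : F, InL (sympB 2 F) L b 0 e → e = 0 := fun e he => by
    by_contra he0
    obtain ⟨e', he'0, he'⟩ := h.centre_pull hb he he0
    exact he'0 (hU e' he')
  let ψ : V4 → F := fun v => if hv : sympB 2 F v b = 0 then (h.full hb hv).choose else 0
  have hψ : ∀ v, sympB 2 F v b = 0 → InL (sympB 2 F) L b v (ψ v) := fun v hv => by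
    simp only [ψ, dif_pos hv]
    exact (h.full hb hv).choose_spec
  have ψadd : ∀ v w, sympB 2 F v b = 0 → sympB 2 F w b = 0 → ψ (v + w) = ψ v + ψ w + sympB 2 F w v := by
    intro v w hv hw
    have hvw : sympB 2 F (v + w) b = 0 := by simp [hv, hw]
    have := hbU _ ((hψ _ hvw).diff halt hvw ((hψ v hv).mul halt hv hw (hψ w hw)))
    exact sub_eq_zero.1 (by rw [CharTwo.sub_eq_add]; exact this)
  obtain ⟨e₀, he₀, hea, heb⟩ := exists_perp_ne halt h4 a b
  obtain ⟨f₀, hfa, hfb, hfe⟩ := exists_dual_perp halt h.nd hab he₀ hea heb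
  obtain ⟨p₁, hp₁⟩ := exists_bit hF (φ e₀)
  obtain ⟨p₂, hp₂⟩ := exists_bit hF (φ f₀)
  obtain ⟨q₁, hq₁⟩ := exists_bit hF (ψ e₀)
  obtain ⟨q₂, hq₂⟩ := exists_bit hF (ψ f₀)
  have d₀ : Bits L φ ψ a b e₀ f₀ p₁ p₂ q₁ q₂ :=
    ⟨⟨⟨hea, heb⟩, ⟨hfa, hfb⟩, by rw [B_swap halt]; exact hfe⟩, hp₁, hp₂, hq₁, hq₂⟩
  have swap : ∀ {e f s₁ s₂ t₁ t₂}, Bits L φ ψ a b e f s₁ s₂ t₁ t₂ → Bits L φ ψ a b f e s₂ s₁ t₂ t₁ :=
    fun ⟨⟨he, hf, hef⟩, x₁, x₂, y₁, y₂⟩ => ⟨⟨hf, he, by rw [B_swap halt]; exact hef⟩, x₂, x₁, y₂, y₁⟩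
  have shear : ∀ {e f s₁ s₂ t₁ t₂}, Bits L φ ψ a b e f s₁ s₂ t₁ t₂ →
      Bits L φ ψ a b e (e + f) s₁ ((s₁ ^^ s₂) ^^ true) t₁ ((t₁ ^^ t₂) ^^ true) := by
    rintro e f s₁ s₂ t₁ t₂ ⟨⟨he, hf, hef⟩, x₁, x₂, y₁, y₂⟩
    have hfe' : sympB 2 F f e = 1 := by rw [B_swap halt]; exact hef
    refine ⟨⟨he, he.add hf, by rw [map_add, halt, hef, zero_add]⟩, x₁, ?_, y₁, ?_⟩
    · rw [h.add e f he.1 hf.1, x₁, x₂, bit_xor, bit_xor, hfe']; rfl
    · rw [ψadd e f he.2 hf.2, y₁, y₂, bit_xor, bit_xor, hfe']; rfl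
  obtain ⟨e, f, s₁, s₂, t₁, t₂, ⟨⟨⟨he₁, he₂⟩, ⟨hf₁, hf₂⟩, hef⟩, x₁, x₂, y₁, y₂⟩, hcan⟩ :
      ∃ e f s₁ s₂ t₁ t₂, Bits L φ ψ a b e f s₁ s₂ t₁ t₂ ∧
        (s₁, s₂, t₁, t₂) ∈ [(true, true, true, true), (false, false, false, false), (false, false, true, false),
          (true, true, false, false), (false, false, true, true)] := by
    cases p₁ <;> cases p₂ <;> cases q₁ <;> cases q₂ <;>
      first
        | exact ⟨_, _, _, _, _, _, d₀, by decide⟩
        | exact ⟨_, _, _, _, _, _, swap d₀, by decide⟩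
        | exact ⟨_, _, _, _, _, _, shear d₀, by decide⟩
        | exact ⟨_, _, _, _, _, _, swap (shear d₀), by decide⟩
        | exact ⟨_, _, _, _, _, _, shear (swap d₀), by decide⟩
        | exact ⟨_, _, _, _, _, _, swap (shear (swap d₀)), by decide⟩
  -- the change of basis
  let C : Fin 2 ⊕ Fin 2 → V4 := Sum.elim ![a, e] ![b, f]
  let M : M4 := Matrix.of fun i j => C j i
  have hcol : ∀ j, M *ᵥ Pi.single j 1 = C j := fun j => funext fun i => by simp [M]
  have hC : ∀ i j, sympB 2 F (C i) (C j) = sympB 2 F (Pi.single i 1) (Pi.single j 1) := by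
    intro i j
    rw [← wv_single i, ← wv_single j, sympB_wv]
    have hfe' : sympB 2 F f e = 1 := by rw [B_swap halt]; exact hef
    rcases i with i | i <;> rcases j with j | j <;> fin_cases i <;> fin_cases j <;>
      simp [C, idx, fN, bit, halt, hab, hba, hef, hfe', he₁, he₂, hf₁, hf₂, B_swap halt a e, B_swap halt b e,
        B_swap halt a f, B_swap halt b f, Nat.testBit_eq_decide_div_mod_eq]
  have hiso : ∀ x y, sympB 2 F (M *ᵥ x) (M *ᵥ y) = sympB 2 F x y := by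
    have key : (sympB 2 F).compl₁₂ M.mulVecLin M.mulVecLin = sympB 2 F :=
      LinearMap.ext_basis (Pi.basisFun F _) (Pi.basisFun F _) fun i j => by
        simp only [LinearMap.compl₁₂_apply, Pi.basisFun_apply, Matrix.mulVecLin_apply, hcol]
        exact hC i j
    exact fun x y => LinearMap.congr_fun₂ key x y
  have hinj : Function.Injective M.mulVec := fun x y exy => sub_eq_zero.1 (h.nd _ fun z => by
    rw [← hiso (x - y) z, Matrix.mulVec_sub, show M *ᵥ x = M *ᵥ y from exy, sub_self, map_zero,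
      LinearMap.zero_apply])
  obtain ⟨P', hP'⟩ := Matrix.mulVec_injective_iff_isUnit.1 hinj
  have hP : P' ∈ spGL 2 F := mem_spGL.2 fun x y => by
    rw [hP', ← sympB_apply, ← sympB_apply]; exact hiso x y
  have col1 : ∀ j, (P' : M4) *ᵥ wv (2 ^ idx j) = C j := fun j => by rw [hP', wv_single, hcol]
  have e1 : (P' : M4) *ᵥ wv 1 = a := col1 (Sum.inl 0)
  have e2 : (P' : M4) *ᵥ wv 2 = e := col1 (Sum.inl 1)
  have e4 : (P' : M4) *ᵥ wv 4 = b := col1 (Sum.inr 0)
  have e8 : (P' : M4) *ᵥ wv 8 = f := col1 (Sum.inr 1)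
  refine classify_code hF hP hL (p₁ := s₁) (p₂ := s₂) (q₁ := t₁) (q₂ := t₂) ?_ ?_ hcan
  · intro c hc
    simp only [gensN, List.mem_cons, List.not_mem_nil, or_false] at hc
    rcases hc with rfl | rfl | rfl | rfl
    · exact inC_of_InL hP (by norm_num) (by norm_num) (by rw [e1, e2, ← x₁]; exact h.mem e he₁)
    · exact inC_of_InL hP (by norm_num) (by norm_num) (by rw [e1, e8, ← x₂]; exact h.mem f hf₁)
    · exact inC_of_InL hP (by norm_num) (by norm_num) (by rw [e4, e2, ← y₁]; exact hψ e he₂)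
    · exact inC_of_InL hP (by norm_num) (by norm_num) (by rw [e4, e8, ← y₂]; exact hψ f hf₂)
  · intro hc
    have := InL_of_inC hP (by norm_num) (by norm_num) hc
    rw [e1, wv_zero, Matrix.mulVec_zero] at this
    have h0 := hU _ this
    simp [bit] at h0

end Cfsg.Agent.Block.SpRootX.Code
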