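import Cfsg.Agent.Lib.Block.SpRootX.Shape
import Cfsg.Agent.Lib.Block.SpRootX.Orth
import Cfsg.Agent.Lib.Block.SpRootX.Small

/-!
Irreducible symplectic groups in characteristic two containing a large group of root elements at a point.
-/

set_option autoImplicit false

namespace Cfsg.Agent.Block.SpRootX

open Matrix Module Cfsg Cfsg.Agent.Classical Cfsg.Agent.Classical.MaxTv

variable {F : Type*} [Field F] [CharP F 2] [Fintype F] {n : ℕ}

/-- The summed form is the symplectic form in characteristic two. -/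
theorem sumForm_eq :
    (fun u v : Fin n ⊕ Fin n → F => ∑ i : Fin n, (u (Sum.inl i) * v (Sum.inr i) + u (Sum.inr i) * v (Sum.inl i))) =
      sympForm n F := by
  funext u v
  rw [sympForm_eq_sum]
  exact Finset.sum_congr rfl fun i _ => by
    have := CharTwo.two_eq_zero (R := F)
    grind

/-- The classification. -/
theorem main (hn : 2 ≤ n) {a : Fin n ⊕ Fin n → F} {φ : (Fin n ⊕ Fin n → F) → F}
    {L : Subgroup (GL (Fin n ⊕ Fin n) F)} (h : Hyp (sympB n F) L a φ) (hL : L ≤ spGL n F) :
    L = spGL n F ∨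
      (∃ Q : QuadraticForm F (Fin n ⊕ Fin n → F), (∀ u v, QuadraticMap.polar ⇑Q u v = sympForm n F u v) ∧
        (L = isometryGroup F ⇑Q ∨ ∀ g : GL (Fin n ⊕ Fin n) F, g ∈ L ↔ (g ∈ isometryGroup F ⇑Q ∧
          Even ((g : Matrix (Fin n ⊕ Fin n) (Fin n ⊕ Fin n) F) - 1).rank))) ∨
      (Fintype.card F = 2 ∧ n = 2 ∧
        (Nonempty (L ≃* alternatingGroup (Fin 6)) ∨ Nonempty (L ≃* Equiv.Perm (Fin 5)))) := by
  classical
  by_cases hT : ∃ γ ≠ 0, InL (sympB n F) L a 0 γ
  · obtain ⟨γ, hγ, hI⟩ := hT
    exact Or.inl (le_antisymm hL (sp_le h hn hγ hI))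
  push Not at hT
  have hU : ∀ e : F, InL (sympB n F) L a 0 e → e = 0 := fun e he => by
    by_contra hne
    exact hT e hne he
  have hι : Fintype.card (Fin n ⊕ Fin n) = 2 * n := by simp; omega
  by_cases hbig : Fintype.card F ≠ 2 ∨ 3 ≤ n
  · obtain ⟨b, ψ, hFr⟩ := h.exists_frame hU (by
      rcases hbig with hF | h3
      · left
        by_contra hcon
        push Not at hcon
        have h1 : (Finset.univ : Finset F) ⊆ {0, 1} := fun z _ => by
          rcases eq_or_ne z 0 with rfl | hz
          · simp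
          · simp [hcon z hz]
        have h2 := Finset.card_le_card h1
        rw [Finset.card_univ, Finset.card_pair zero_ne_one] at h2
        have h3 := Fintype.one_lt_card (α := F)
        omega
      · right; omega) (by omega)
    refine Or.inr (Or.inl ⟨hFr.form, fun u v => by rw [hFr.form_polar, sympB_apply], ?_⟩)
    exact hFr.classify hι (by omega)
  push Not at hbig
  obtain ⟨hF, hn3⟩ := hbig
  obtain rfl : n = 2 := by omega
  rcases Code.small hF h hL hU with ⟨Q, hpol, hQ⟩ | hiso
  · exact Or.inr (Or.inl ⟨Q, fun u v => by rw [hpol, sympB_apply], hQ⟩)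
  · exact Or.inr (Or.inr ⟨hF, rfl, hiso⟩)

end Cfsg.Agent.Block.SpRootX
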