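import Cfsg.Agent.Lib.Block.SpRootX.Basic

/-!
Root elements at two perpendicular points, and the dichotomy between full transvection groups and no
transvections at the points.
-/

set_option autoImplicit false
set_option linter.unusedSectionVars false

namespace Cfsg.Agent.Block.SpRootX

open Matrix Module

variable {F : Type*} [Field F] [CharP F 2] {ι : Type} [Fintype ι] [DecidableEq ι]
  {B : LinearMap.BilinForm F (ι → F)} {L : Subgroup (GL ι F)} {a : ι → F} {φ : (ι → F) → F}

/-- A vector pairing to zero with `r` and to one with `p`. -/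
theorem exists_sep (halt : ∀ x, B x x = 0) (hnd : ∀ x, (∀ y, B x y = 0) → x = 0) {p r : ι → F}
    (hind : ∀ m : F, p ≠ m • r) (hr : r ≠ 0) : ∃ w, B w r = 0 ∧ B w p = 1 := by
  by_contra hcon
  push Not at hcon
  have h0 : ∀ w, B w r = 0 → B w p = 0 := fun w hw => by
    by_contra hne
    exact hcon ((B w p)⁻¹ • w) (by simp [hw]) (by simp [hne])
  obtain ⟨z, hz⟩ : ∃ z, B z r = 1 := by
    obtain ⟨y, hy⟩ : ∃ y, B r y ≠ 0 := by
      by_contra h
      push Not at h
      exact hr (hnd r h)
    exact ⟨(B r y)⁻¹ • y, by rw [B_swap halt, map_smul, smul_eq_mul, inv_mul_cancel₀ hy]⟩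
  refine hind (B z p) (sub_eq_zero.1 (hnd _ fun y => ?_))
  have h := h0 (y + B y r • z) (by simp [hz, CharTwo.add_self_eq_zero])
  simp only [map_add, map_smul, LinearMap.add_apply, LinearMap.smul_apply, smul_eq_mul] at h
  rw [B_swap halt]
  simp only [map_sub, map_smul, smul_eq_mul]
  rw [CharTwo.sub_eq_add]
  linear_combination h

/-- A root element at `p` in the direction of `r` determines root elements at `r` in the direction
of `p`. -/
theorem Hyp.key (h : Hyp B L a φ) {p r : ι → F} (hr : Pnt L a r) (hpr : B p r = 0)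
    (hind : ∀ m : F, p ≠ m • r) {m c : F} (hc0 : c ≠ 0) (hc : InL B L p (m • r) c) (s : F) :
    InL B L r (s • p) (s * s / c) := by
  obtain ⟨w₀, hw₀r, hw₀p⟩ := exists_sep h.alt h.nd hind (h.pnt_ne hr)
  set w := (s / c) • w₀ with hw
  have hwr : B w r = 0 := by simp [hw, hw₀r]
  have hwp : B w p = s / c := by simp [hw, hw₀p]
  obtain ⟨d, hd⟩ := h.full hr hwr
  obtain ⟨g, hg, hgx⟩ := hc
  have h1 := hd.conj h.iso hg
  have hgr : sg B p (m • r) c r = r :=
    sg_fix (by rw [B_swap h.alt]; exact hpr) (by simp [h.alt])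
  have hgw : sg B p (m • r) c w = (w + s • p) + ((s / c) * m) • r := by
    simp only [sg, hwp, map_smul, hwr, smul_eq_mul, mul_zero, zero_add, smul_smul]
    rw [mul_div_cancel₀ s hc0]
    abel
  rw [hgx, hgx, hgr, hgw, InL.shift] at h1
  have h2 := h1.mul h.alt (by simp [hwr, hpr]) hwr hd
  have e1 : w + s • p + w = s • p := by
    funext i
    simp only [Pi.add_apply]
    linear_combination (w i) * CharTwo.two_eq_zero (R := F)
  have e2 : d + d + B w (w + s • p) = s * s / c := by
    rw [map_add, h.alt, map_smul, hwp, CharTwo.add_self_eq_zero, smul_eq_mul]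
    ring
  rwa [e1, e2] at h2

theorem ne_smul_symm {p r : ι → F} (hind : ∀ m : F, p ≠ m • r) (hr : r ≠ 0) : ∀ m : F, r ≠ m • p := by
  intro m e
  rcases eq_or_ne m 0 with rfl | hm
  · exact hr (by rw [e, zero_smul])
  · exact hind m⁻¹ (by rw [e, smul_smul, inv_mul_cancel₀ hm, one_smul])

theorem y_apply_b {b v : ι → F} (hab : B b a = 1) (hvb : B b v = 0) (e : F) :
    sg B a v e b = b + v + e • a := by
  simp [sg, hab, hvb]

/-- Images of a partner point under the root elements at the other point. -/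
theorem Hyp.pnt_move (h : Hyp B L a φ) {q r v : ι → F} {e : F} (hq : Pnt L a q) (hrq : B q r = 1)
    (hvq : B q v = 0) (hv : InL B L r v e) : Pnt L a (q + v + e • r) := by
  obtain ⟨g, hg, hgx⟩ := hv
  have := hq.map hg
  rwa [hgx, y_apply_b hrq hvq] at this

/-- Perpendicular points made out of two root elements at a hyperbolic pair. -/
theorem Hyp.mk_pair (h : Hyp B L a φ) {b v w : ι → F} {e c : F} (hb : Pnt L a b) (hab : B a b = 1)
    (hva : B v a = 0) (hvb : B v b = 0) (hwa : B w a = 0) (hwb : B w b = 0)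
    (hv : InL B L a v e) (hw : InL B L b w c) (he : e * c + B v w = 1) (hne : v ≠ e • w) :
    ∃ p r, Pnt L a p ∧ Pnt L a r ∧ B p r = 0 ∧ ∀ m : F, p ≠ m • r := by
  have hba : B b a = 1 := by rw [B_swap h.alt]; exact hab
  have hav : B a v = 0 := by rw [B_swap h.alt]; exact hva
  have haw : B a w = 0 := by rw [B_swap h.alt]; exact hwa
  have hbv : B b v = 0 := by rw [B_swap h.alt]; exact hvb
  have hbw : B b w = 0 := by rw [B_swap h.alt]; exact hwb
  refine ⟨b + v + e • a, a + w + c • b, h.pnt_move hb hba hbv hv, h.pnt_move h.pnt_self hab haw hw,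
    ?_, fun m hm => ?_⟩
  · simp only [map_add, map_smul, LinearMap.add_apply, LinearMap.smul_apply, smul_eq_mul, h.alt, hab, hba,
      hva, haw, hbw, hvb, mul_zero, mul_one, add_zero, zero_add]
    linear_combination he + CharTwo.two_eq_zero (R := F)
  · have h1 := congrArg (fun z => B z a) hm
    have h2 := congrArg (fun z => B z b) hm
    simp only [map_add, map_smul, LinearMap.add_apply, LinearMap.smul_apply, smul_eq_mul, h.alt, hab, hba,
      hva, hwa, hvb, hwb, mul_zero, mul_one, add_zero, zero_add] at h1 h2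
    refine hne ?_
    rw [← h2] at hm
    funext i
    have := congrFun hm i
    simp only [Pi.add_apply, Pi.smul_apply, smul_eq_mul] at this ⊢
    have h3 : e * c = 1 := by rw [h2]; exact h1.symm
    linear_combination this + b i * h3

/-- Two perpendicular points, when there is a transvection at a point. -/
theorem Hyp.exists_pair (h : Hyp B L a φ) [Finite F] {b w : ι → F} (hb : Pnt L a b) (hab : B a b = 1)
    (hw0 : w ≠ 0) (hwa : B w a = 0) (hwb : B w b = 0) {γ : F} (hγ0 : γ ≠ 0) (hγ : InL B L a 0 γ) :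
    ∃ p r, Pnt L a p ∧ Pnt L a r ∧ B p r = 0 ∧ ∀ m : F, p ≠ m • r := by
  have hba : B b a = 1 := by rw [B_swap h.alt]; exact hab
  by_cases hz : ∃ v ≠ 0, B v a = 0 ∧ B v b = 0 ∧ φ v = 0
  · obtain ⟨v, hv0, hva, hvb, hφ⟩ := hz
    have hv := h.mem v hva
    rw [hφ] at hv
    have hp := h.pnt_move hb hba (by rw [B_swap h.alt]; exact hvb) hv
    rw [zero_smul, add_zero] at hp
    refine ⟨b + v, b, hp, hb, by simp [h.alt, hvb], fun m hm => hv0 ?_⟩
    have h1 := congrArg (fun z => B z a) hm
    simp only [map_add, map_smul, LinearMap.add_apply, LinearMap.smul_apply, smul_eq_mul, hba, hva, mul_one,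
      add_zero] at h1
    rw [← h1, one_smul, add_eq_left] at hm
    exact hm
  obtain ⟨c, hc⟩ := h.full hb hwb
  rcases eq_or_ne c 0 with rfl | hc0
  · obtain ⟨v, hva, hvb, hvw⟩ := exists_dual_perp h.alt h.nd hab hw0 hwa hwb
    refine h.mk_pair hb hab hva hvb hwa hwb (h.mem v hva) hc (by rw [mul_zero, zero_add, hvw]) fun e => ?_
    rw [e, map_smul, LinearMap.smul_apply, h.alt, smul_zero] at hvw
    exact zero_ne_one hvw
  push Not at hz
  let f : F →+ F :=
    { toFun := fun m => φ (m • w)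
      map_zero' := by rw [zero_smul, h.phi_zero]
      map_add' := fun x y => by
        rw [add_smul, h.add _ _ (by simp [hwa]) (by simp [hwa])]
        simp [h.alt] }
  have hinj : Function.Injective f := (injective_iff_map_eq_zero f).2 fun m hm => by
    by_contra hne
    exact hz (m • w) (smul_ne_zero hne hw0) (by simp [hwa]) (by simp [hwb]) hm
  have hsurj := Finite.injective_iff_surjective.1 hinj
  obtain ⟨μ₁, hμ₁⟩ := hsurj c⁻¹
  obtain ⟨μ₂, hμ₂⟩ := hsurj (c⁻¹ + γ)
  have h12 : μ₁ ≠ μ₂ := fun e => hγ0 (by rw [e, hμ₂] at hμ₁; exact add_eq_left.1 hμ₁)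
  obtain ⟨μ, hμ, hμm⟩ : ∃ μ : F, InL B L a (μ • w) c⁻¹ ∧ μ ≠ c⁻¹ := by
    have m1 : InL B L a (μ₁ • w) c⁻¹ := hμ₁ ▸ h.mem _ (by simp [hwa])
    have m2 : InL B L a (μ₂ • w) c⁻¹ := by
      have := (h.mem (μ₂ • w) (by simp [hwa])).mul h.alt (by simp [hwa]) (by simp) hγ
      rw [show φ (μ₂ • w) = c⁻¹ + γ from hμ₂, add_zero] at this
      simpa [add_assoc, CharTwo.add_self_eq_zero] using this
    by_cases e : μ₁ = c⁻¹
    · exact ⟨μ₂, m2, fun e' => h12 (e.trans e'.symm)⟩
    · exact ⟨μ₁, m1, e⟩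
  refine h.mk_pair hb hab (by simp [hwa]) (by simp [hwb]) hwa hwb hμ hc ?_ fun e => hμm ?_
  · simp [h.alt, hc0]
  · exact smul_left_injective F hw0 e

/-- A transvection at a point gives the whole root group. -/
theorem Hyp.all_transvections (h : Hyp B L a φ) [Finite F] {b w : ι → F} (hb : Pnt L a b) (hab : B a b = 1)
    (hw0 : w ≠ 0) (hwa : B w a = 0) (hwb : B w b = 0) {γ : F} (hγ0 : γ ≠ 0) (hγ : InL B L a 0 γ) (c : F) :
    InL B L a 0 c := by
  rcases eq_or_ne c 0 with rfl | hc0
  · exact InL.zero a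
  by_cases hone : ∀ x : F, x ≠ 0 → x = 1
  · rwa [hone c hc0, ← hone γ hγ0]
  push Not at hone
  obtain ⟨z, hz0, hz1⟩ := hone
  obtain ⟨p, q, hp, hq, hpq, hind⟩ := h.exists_pair hb hab hw0 hwa hwb hγ0 hγ
  obtain ⟨g, hg, l, hl, rfl⟩ := hp
  have hgi : ∀ x : ι → F, ((g⁻¹ : GL ι F) : Matrix ι ι F) *ᵥ ((g : Matrix ι ι F) *ᵥ x) = x := fun x => by
    rw [Matrix.mulVec_mulVec, ← Units.val_mul, inv_mul_cancel, Units.val_one, Matrix.one_mulVec]
  have hig : ∀ x : ι → F, (g : Matrix ι ι F) *ᵥ (((g⁻¹ : GL ι F) : Matrix ι ι F) *ᵥ x) = x := fun x => by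
    rw [Matrix.mulVec_mulVec, ← Units.val_mul, mul_inv_cancel, Units.val_one, Matrix.one_mulVec]
  obtain ⟨r, hrdef⟩ : ∃ r, r = ((g⁻¹ : GL ι F) : Matrix ι ι F) *ᵥ q := ⟨_, rfl⟩
  have hr : Pnt L a r := hrdef ▸ hq.map (inv_mem hg)
  have har : B a r = 0 := by
    have h1 := h.iso g hg a r
    rw [hrdef, hig] at h1
    rw [hrdef, ← h1]
    simpa [hl] using hpq
  have hia : ∀ m : F, a ≠ m • r := fun m e => by
    refine hind (l * m) ?_
    conv_lhs => rw [e, Matrix.mulVec_smul, hrdef, hig]
    rw [smul_smul]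
  have hir := ne_smul_symm hia (h.pnt_ne hr)
  obtain ⟨g', hg', l', hl', hre⟩ : Pnt L a r := hr
  obtain ⟨γ', hγ'0, hγ'⟩ : ∃ γ' ≠ 0, InL B L r 0 γ' := by
    refine ⟨γ / (l' * l'), div_ne_zero hγ0 (mul_ne_zero hl' hl'), ?_⟩
    have := (hγ.conj h.iso hg').smul_point' hl'
    rwa [Matrix.mulVec_zero, smul_zero, ← hre] at this
  have hrP : Pnt L a r := ⟨g', hg', l', hl', hre⟩
  have R1 : ∀ t, InL B L r (t • a) (t * t / γ) :=
    h.key hrP har hia hγ0 (m := 0) (by rwa [zero_smul])
  have A1 : ∀ t, InL B L a (t • r) (t * t / γ') :=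
    h.key h.pnt_self (by rw [B_swap h.alt]; exact har) hir hγ'0 (m := 0) (by rwa [zero_smul])
  -- compare two root elements at `r` in the direction of `a`
  obtain ⟨s, hs0, hs⟩ : ∃ s : F, s ≠ 0 ∧ s * s ≠ γ * γ' := by
    by_contra hcon
    push Not at hcon
    refine hz1 ?_
    have h1 := hcon 1 one_ne_zero
    have h2 := hcon z hz0
    have h3 : (z - 1) * (z - 1) = 0 := by
      linear_combination h2 - h1 + (1 - z) * CharTwo.two_eq_zero (R := F)
    exact sub_eq_zero.1 (mul_self_eq_zero.1 h3)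
  have hsc : s * s / γ' ≠ 0 := div_ne_zero (mul_ne_zero hs0 hs0) hγ'0
  set δ := γ⁻¹ + γ' / (s * s) with hδ
  have hδ0 : δ ≠ 0 := fun e => hs (by
    rw [hδ] at e
    field_simp at e
    linear_combination e - (γ * γ') * CharTwo.two_eq_zero (R := F))
  obtain ⟨t, ht⟩ : ∃ t : F, t * t * δ = c / (l' * l') := by
    haveI := Fintype.ofFinite F
    obtain ⟨t, ht⟩ := FiniteField.isSquare_of_char_two (ringChar.eq F 2) (c / (l' * l') / δ)
    exact ⟨t, by rw [← ht, div_mul_cancel₀ _ hδ0]⟩
  have R2 := h.key hrP har hia hsc (A1 s) t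
  have R3 := (R1 t).diff h.alt (by simp [har]) R2
  rw [show t * t / γ + t * t / (s * s / γ') = c / (l' * l') by
    rw [← ht, hδ]; field_simp] at R3
  rw [hre] at R3
  have R4 := (InL.smul_point l' R3).conj h.iso (inv_mem hg')
  rw [Matrix.mulVec_mulVec, ← Units.val_mul, inv_mul_cancel, Units.val_one, Matrix.one_mulVec, smul_zero,
    Matrix.mulVec_zero, mul_div_cancel₀ c (mul_ne_zero hl' hl')] at R4
  exact R4

/-- A vector perpendicular to two given ones, and a partner for it there. -/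
theorem exists_pair_perp (halt : ∀ x, B x x = 0) (hnd : ∀ x, (∀ y, B x y = 0) → x = 0)
    (h6 : 6 ≤ Fintype.card ι) (p r : ι → F) :
    ∃ v w, B v p = 0 ∧ B v r = 0 ∧ B w p = 0 ∧ B w r = 0 ∧ B v w = 1 := by
  let K : Submodule F (ι → F) := LinearMap.ker (B.flip p) ⊓ LinearMap.ker (B.flip r)
  have hK : ∀ x, x ∈ K ↔ B x p = 0 ∧ B x r = 0 := fun x => Iff.rfl
  by_contra hcon
  push Not at hcon
  have hsub : K ≤ Submodule.span F (Set.range ![p, r]) := by
    intro x hx
    have hz : ∀ y ∈ K, B x y = 0 := fun y hy => by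
      by_contra hne
      exact hcon x ((B x y)⁻¹ • y) ((hK x).1 hx).1 ((hK x).1 hx).2 (by simp [((hK y).1 hy).1])
        (by simp [((hK y).1 hy).2]) (by simp [hne])
    have hmem : B x ∈ Submodule.span F (Set.range ![B.flip p, B.flip r]) := by
      refine mem_span_of_iInf_ker_le_ker fun y hy => ?_
      simp only [Submodule.mem_iInf, LinearMap.mem_ker] at hy
      exact LinearMap.mem_ker.2 (hz y ((hK y).2 ⟨by simpa using hy 0, by simpa using hy 1⟩))
    rw [Submodule.mem_span_range_iff_exists_fun] at hmem ⊢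
    obtain ⟨c, hc⟩ := hmem
    refine ⟨c, sub_eq_zero.1 (hnd _ fun y => ?_)⟩
    have := LinearMap.congr_fun hc y
    simp only [Fin.sum_univ_two, Matrix.cons_val_zero, Matrix.cons_val_one, LinearMap.add_apply,
      LinearMap.smul_apply, LinearMap.flip_apply, LinearMap.BilinForm.flip_apply, smul_eq_mul] at this
    simp only [Fin.sum_univ_two, Matrix.cons_val_zero, Matrix.cons_val_one, map_sub, map_add, map_smul,
      LinearMap.sub_apply, LinearMap.add_apply, LinearMap.smul_apply, smul_eq_mul, B_swap halt p y,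
      B_swap halt r y]
    linear_combination this
  have h1 := Submodule.finrank_mono hsub
  have h2 : finrank F (Submodule.span F (Set.range ![p, r])) ≤ 2 := by
    have := finrank_range_le_card (R := F) ![p, r]
    rwa [Set.finrank, Fintype.card_fin] at this
  have h3 := LinearMap.finrank_range_add_finrank_ker (LinearMap.prod (B.flip p) (B.flip r))
  have h4 : LinearMap.ker (LinearMap.prod (B.flip p) (B.flip r)) = K := LinearMap.ker_prod _ _
  have h5 := Submodule.finrank_le (LinearMap.range (LinearMap.prod (B.flip p) (B.flip r)))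
  rw [Module.finrank_prod, Module.finrank_self] at h5
  rw [h4, Module.finrank_pi] at h3
  omega

/-- With no transvections at the points, root elements along perpendicular points have zero parameter. -/
theorem Hyp.perp_zero (h : Hyp B L a φ) (hU : ∀ e : F, InL B L a 0 e → e = 0)
    (hbig : (∃ z : F, z ≠ 0 ∧ z ≠ 1) ∨ 6 ≤ Fintype.card ι) {p r : ι → F} (hp : Pnt L a p) (hr : Pnt L a r)
    (hpr : B p r = 0) (hind : ∀ m : F, p ≠ m • r) {m c : F} (hc : InL B L p (m • r) c) : c = 0 := by
  have hC : ∀ e : F, InL B L p 0 e → e = 0 := fun e he => by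
    by_contra he0
    obtain ⟨e', he'0, he'⟩ := h.centre_pull hp he he0
    exact he'0 (hU e' he')
  have hrp : B r p = 0 := by rw [B_swap h.alt]; exact hpr
  have hir := ne_smul_symm hind (h.pnt_ne hr)
  by_contra hc0
  by_cases hz : ∃ z : F, z ≠ 0 ∧ z ≠ 1
  · obtain ⟨z, hz0, hz1⟩ := hz
    have R : ∀ s, InL B L r (s • p) (s * s / c) := h.key hr hpr hind hc0 hc
    have P1 := h.key hp hrp hir (by simp [hc0]) (R 1) 1
    have P2 := h.key hp hrp hir (div_ne_zero (mul_ne_zero hz0 hz0) hc0) (R z) 1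
    have h3 := hC _ (P1.diff h.alt (by simp [hrp]) P2)
    refine hz1 (sub_eq_zero.1 (mul_self_eq_zero.1 ?_))
    field_simp at h3
    have h4 : z * z + 1 = 0 := (mul_eq_zero.1 (show c * (z * z + 1) = 0 by linear_combination h3)).resolve_left hc0
    linear_combination h4 - z * CharTwo.two_eq_zero (R := F)
  · have h6 : 6 ≤ Fintype.card ι := hbig.resolve_left hz
    push Not at hz
    obtain ⟨v, w, hvp, hvr, hwp, hwr, hvw⟩ := exists_pair_perp h.alt h.nd h6 p r
    -- a commutator of root elements at `p` and at `r`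
    obtain ⟨e, he⟩ := h.full hr hvr
    obtain ⟨d, hd⟩ := h.full hp hwp
    obtain ⟨g, hg, hgx⟩ := he
    have h1 := hd.conj h.iso hg
    rw [hgx, hgx, sg_fix hpr (by rw [B_swap h.alt]; exact hvp),
      show sg B r v e w = w + r by simp [sg, hwr, B_swap h.alt w v, hvw]] at h1
    have h2 := h1.mul h.alt (by simp [hwp, hrp]) hwp hd
    rw [show w + r + w = r from funext fun i => by
      simp only [Pi.add_apply]; linear_combination (w i) * CharTwo.two_eq_zero (R := F),
      show d + d + B w (w + r) = 0 by simp [h.alt, hwr, CharTwo.add_self_eq_zero]] at h2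
    rcases eq_or_ne m 0 with rfl | hm
    · exact hc0 (hC c (by rwa [zero_smul] at hc))
    · rw [hz m hm, one_smul] at hc
      exact hc0 (by simpa using hC _ (hc.diff h.alt hrp h2))

end Cfsg.Agent.Block.SpRootX
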