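import Mathlib

/-!
Two additive maps of a finite field of characteristic two interlocked by `A (ν / B ν) = 1 / B ν` are
both a multiple of squaring.
-/

set_option autoImplicit false

namespace Cfsg.Agent.Block.SpRootX

variable {F : Type*} [Field F] [CharP F 2] [Finite F]

theorem square_of_rel (A B : F →+ F) (hA : Function.Injective A) (hB : Function.Injective B)
    (h : ∀ x : F, x ≠ 0 → A (x / B x) = (B x)⁻¹) :
    ∃ k : F, ∀ x, A x = k * (x * x) ∧ B x = k * (x * x) := by
  have h2 : (2 : F) = 0 := CharTwo.two_eq_zero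
  let eA := AddEquiv.ofBijective A ⟨hA, Finite.injective_iff_surjective.1 hA⟩
  let eB := AddEquiv.ofBijective B ⟨hB, Finite.injective_iff_surjective.1 hB⟩
  obtain ⟨M, hM⟩ : ∃ M : F →+ F, ∀ x, M (A x) = x :=
    ⟨eA.symm.toAddMonoidHom, fun x => eA.symm_apply_apply x⟩
  obtain ⟨L, hL⟩ : ∃ L : F →+ F, ∀ x, L (B x) = x :=
    ⟨eB.symm.toAddMonoidHom, fun x => eB.symm_apply_apply x⟩
  have hBs : Function.Surjective B := Finite.injective_iff_surjective.1 hB
  have hMinj : Function.Injective M := by
    intro x y e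
    obtain ⟨x', rfl⟩ := Finite.injective_iff_surjective.1 hA x
    obtain ⟨y', rfl⟩ := Finite.injective_iff_surjective.1 hA y
    rw [hM, hM] at e
    rw [e]
  -- the relation between the inverses
  have rel : ∀ y : F, y ≠ 0 → y * M y⁻¹ = L y := by
    intro y hy
    obtain ⟨x, rfl⟩ := hBs y
    have hx : x ≠ 0 := fun e => hy (by rw [e, map_zero])
    rw [← h x hx, hM, hL, mul_div_cancel₀ x hy]
  have ML : ∀ w : F, w ≠ 0 → M w = L w := by
    intro w hw
    by_cases hw1 : w = 1
    · subst hw1; simpa using rel 1 one_ne_zero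
    obtain ⟨u, hu⟩ : ∃ u, u = w + 1 := ⟨_, rfl⟩
    have hu0 : u ≠ 0 := fun e => hw1 (by linear_combination e - hu - h2)
    have hy : u⁻¹ ≠ 0 := inv_ne_zero hu0
    have hy1 : u⁻¹ + 1 ≠ 0 := fun e => hw (by
      field_simp at e
      linear_combination e - hu - h2)
    have e1 := rel u⁻¹ hy
    have e2 := rel (u⁻¹ + 1) hy1
    have e3 : L (1 : F) = M 1 := by simpa using (rel 1 one_ne_zero).symm
    rw [map_add, ← e1, e3] at e2
    have key : M (u⁻¹ + 1)⁻¹ = M u + M w + M w⁻¹ := by
      rw [← map_add, ← map_add]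
      congr 1
      have e : u⁻¹ + 1 = w * u⁻¹ := by field_simp; linear_combination hu + h2
      rw [e, mul_inv, inv_inv]
      field_simp
      linear_combination (1 - w) * hu - w * w * h2
    rw [inv_inv, key] at e2
    have hMu : M u = M w + M 1 := by
      rw [← map_add, ← hu]
    rw [hMu] at e2
    field_simp at e2
    have e4 : M w = w * M w⁻¹ := by
      subst hu
      grind
    rw [e4, rel w hw]
  have hL0 : ∀ y : F, y ≠ 0 → y * L y⁻¹ = L y := fun y hy => by
    rw [← ML _ (inv_ne_zero hy), rel y hy]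
  obtain ⟨n, hn⟩ : ∃ n, n = L 1 * L 1 := ⟨_, rfl⟩
  have hsq : ∀ a b : F, (L a + L b) * (L a + L b) = L a * L a + L b * L b := fun a b => by
    linear_combination (L a * L b) * h2
  have main : ∀ y : F, L (y * y) * L (y * y) = n * (y * y) := by
    intro y
    by_cases hy : y = 0
    · simp [hy]
    by_cases hy1 : y = 1
    · subst hy1; simp [hn]
    have hy' : y + 1 ≠ 0 := fun e => hy1 (by linear_combination e - h2)
    have e1 := hL0 y hy
    have e2 := hL0 (y + 1) hy'
    have hz : y * y + y ≠ 0 := by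
      rw [show y * y + y = y * (y + 1) by ring]; exact mul_ne_zero hy hy'
    have e3 := hL0 (y * y + y) hz
    have hid : (y * y + y)⁻¹ = y⁻¹ + (y + 1)⁻¹ := by
      field_simp
      linear_combination -y * h2
    rw [hid, map_add, map_add] at e3
    rw [map_add] at e2
    have e4 : L (y * y) + L y = (y + 1) * L y + y * (L y + L 1) := by
      linear_combination -e3 + (y + 1) * e1 + y * e2
    have e5 : L (y * y) = y * L 1 := by linear_combination e4 + (y * L y) * h2
    rw [e5, hn]; ring
  obtain ⟨l, hl⟩ : ∃ l, l = L 1 := ⟨_, rfl⟩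
  have hl0 : l ≠ 0 := fun e => by
    have := hMinj (show M 1 = M 0 by rw [ML 1 one_ne_zero, ← hl, e, map_zero])
    exact one_ne_zero this
  have hn' : ∀ x, L x * L x = l * l * x := fun x => by
    haveI := Fintype.ofFinite F
    obtain ⟨y, rfl⟩ := FiniteField.isSquare_of_char_two (ringChar.eq F 2) x
    rw [main y, hn, hl]
  refine ⟨(l * l)⁻¹, fun x => ?_⟩
  have hB' : B x = (l * l)⁻¹ * (x * x) := by
    have := hn' (B x)
    rw [hL] at this
    rw [this]
    field_simp
  refine ⟨?_, hB'⟩
  rcases eq_or_ne (A x) 0 with h0 | h0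
  · rw [show x = 0 from hA (by rw [h0, map_zero]), map_zero]; simp
  have := hn' (A x)
  rw [← ML _ h0, hM] at this
  rw [this]
  field_simp

end Cfsg.Agent.Block.SpRootX
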