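import Cfsg.Agent.Lib.Block.SpRootX.Pairs
import Cfsg.Agent.Lib.Block.SpRootX.Scalar

/-!
Without transvections at the points, the parameters form a quadratic form that the group preserves.
-/

set_option autoImplicit false
set_option linter.unusedSectionVars false

namespace Cfsg.Agent.Block.SpRootX

open Matrix Module

variable {F : Type*} [Field F] [CharP F 2] [Finite F] {ι : Type} [Fintype ι] [DecidableEq ι]
  {B : LinearMap.BilinForm F (ι → F)} {L : Subgroup (GL ι F)} {a : ι → F} {φ : (ι → F) → F}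

/-- The standing hypotheses seen from a hyperbolic pair of points. -/
structure Frame (B : LinearMap.BilinForm F (ι → F)) (L : Subgroup (GL ι F)) (a b : ι → F)
    (φ ψ : (ι → F) → F) : Prop where
  hyp : Hyp B L a φ
  hypb : Hyp B L b ψ
  pb : Pnt L a b
  pa : Pnt L b a
  hab : B a b = 1
  noA : ∀ e : F, InL B L a 0 e → e = 0
  noB : ∀ e : F, InL B L b 0 e → e = 0
  big : (∃ z : F, z ≠ 0 ∧ z ≠ 1) ∨ 6 ≤ Fintype.card ι
  dim : 4 ≤ Fintype.card ι

variable {b : ι → F} {ψ : (ι → F) → F}

theorem Frame.symm (h : Frame B L a b φ ψ) : Frame B L b a ψ φ where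
  hyp := h.hypb
  hypb := h.hyp
  pb := h.pa
  pa := h.pb
  hab := by rw [B_swap h.hyp.alt]; exact h.hab
  noA := h.noB
  noB := h.noA
  big := h.big
  dim := h.dim

/-- The perpendicular space of a hyperbolic pair is not zero. -/
theorem exists_perp_ne (halt : ∀ x, B x x = 0) (h4 : 4 ≤ Fintype.card ι) (a b : ι → F) :
    ∃ w, w ≠ 0 ∧ B w a = 0 ∧ B w b = 0 := by
  by_contra hcon
  push Not at hcon
  let T : (ι → F) →ₗ[F] (Fin 2 → F) := LinearMap.pi ![B a, B b]
  have hT : Function.Injective T := (injective_iff_map_eq_zero T).2 fun x hx => by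
    by_contra hne
    have e0 : B a x = 0 := congrFun hx 0
    have e1 : B b x = 0 := congrFun hx 1
    exact hcon x hne (by rw [B_swap halt]; exact e0) (by rw [B_swap halt]; exact e1)
  have := LinearMap.finrank_le_finrank_of_injective hT
  rw [Module.finrank_pi, Module.finrank_pi, Fintype.card_fin] at this
  omega

/-- Existence of a frame. -/
theorem Hyp.exists_frame (h : Hyp B L a φ) (hU : ∀ e : F, InL B L a 0 e → e = 0)
    (hbig : (∃ z : F, z ≠ 0 ∧ z ≠ 1) ∨ 6 ≤ Fintype.card ι) (h4 : 4 ≤ Fintype.card ι) : ∃ b ψ, Frame B L a b φ ψ := by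
  classical
  obtain ⟨b, hb, hab⟩ := h.exists_partner
  have hbU : ∀ e : F, InL B L b 0 e → e = 0 := fun e he => by
    by_contra he0
    obtain ⟨e', he'0, he'⟩ := h.centre_pull hb he he0
    exact he'0 (hU e' he')
  let ψ : (ι → F) → F := fun v => if hv : B v b = 0 then (h.full hb hv).choose else 0
  have hψ : ∀ v, B v b = 0 → InL B L b v (ψ v) := fun v hv => by
    simp only [ψ, dif_pos hv]
    exact (h.full hb hv).choose_spec
  refine ⟨b, ψ, h, ⟨h.alt, h.nd, h.iso, h.irr, h.pnt_ne hb, hψ, fun v w hv hw => ?_⟩, hb, ?_, hab, hU,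
    hbU, hbig, h4⟩
  · have hvw : B (v + w) b = 0 := by simp [hv, hw]
    have := hbU _ ((hψ _ hvw).diff h.alt hvw ((hψ v hv).mul h.alt hv hw (hψ w hw)))
    exact sub_eq_zero.1 (by rw [CharTwo.sub_eq_add]; exact this)
  · obtain ⟨g, hg, l, hl, hbe⟩ := hb
    refine ⟨g⁻¹, inv_mem hg, l⁻¹, inv_ne_zero hl, ?_⟩
    rw [hbe, Matrix.mulVec_smul, Matrix.mulVec_mulVec, ← Units.val_mul, inv_mul_cancel, Units.val_one,
      Matrix.one_mulVec, smul_smul, inv_mul_cancel₀ hl, one_smul]

/-- The common perpendicular space of the frame. -/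
def InW (B : LinearMap.BilinForm F (ι → F)) (a b v : ι → F) : Prop := B v a = 0 ∧ B v b = 0

theorem InW.symm {v : ι → F} (h : InW B a b v) : InW B b a v := ⟨h.2, h.1⟩

theorem InW.smul {v : ι → F} (h : InW B a b v) (m : F) : InW B a b (m • v) :=
  ⟨by simp [h.1], by simp [h.2]⟩

theorem InW.add {v w : ι → F} (h : InW B a b v) (h' : InW B a b w) : InW B a b (v + w) :=
  ⟨by simp [h.1, h'.1], by simp [h.2, h'.2]⟩

theorem Frame.zero_param (h : Frame B L a b φ ψ) {v : ι → F} (hv : B v b = 0) {c : F}
    (hc : InL B L b v c) : ψ v = c :=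
  sub_eq_zero.1 (by rw [CharTwo.sub_eq_add]; exact h.noB _ ((h.hypb.mem v hv).diff h.hyp.alt hv hc))

/-- Two perpendicular moved points force zeros of `ψ` on a line. -/
theorem Frame.line_zero (h : Frame B L a b φ ψ) {v w : ι → F} (hv : InW B a b v) (hw : InW B a b w)
    (he : φ v * ψ w + B v w = 1) (m : F) : ψ (m • (w + ψ w • v)) = 0 := by
  have halt := h.hyp.alt
  have hba : B b a = 1 := by rw [B_swap halt]; exact h.hab
  have hwv : B w v = B v w := B_swap halt w v
  have hav : B a v = 0 := by rw [B_swap halt]; exact hv.1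
  have hbv : B b v = 0 := by rw [B_swap halt]; exact hv.2
  have haw : B a w = 0 := by rw [B_swap halt]; exact hw.1
  have hbw : B b w = 0 := by rw [B_swap halt]; exact hw.2
  set z := w + ψ w • v with hz
  have hzW : InW B a b z := hw.add (hv.smul _)
  rcases eq_or_ne z 0 with h0 | hz0
  · rw [h0, smul_zero, h.hypb.phi_zero]
  have hp₀ : Pnt L a (a + w + ψ w • b) := h.hyp.pnt_move h.hyp.pnt_self h.hab haw (h.hypb.mem w hw.2)
  obtain ⟨g, hg, hgx⟩ := h.hyp.mem v hv.1
  have hp := hp₀.map hg
  rw [hgx] at hp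
  have hpe : sg B a v (φ v) (a + w + ψ w • b) = z + ψ w • b := by
    simp only [sg, hz, map_add, map_smul, LinearMap.add_apply, LinearMap.smul_apply, smul_eq_mul, halt, hw.1,
      hba, hav, hwv, hbv, mul_one, mul_zero, add_zero, zero_add]
    have h1 : φ v * ψ w + B v w + 1 = 0 := by linear_combination he + CharTwo.two_eq_zero (R := F)
    match_scalars <;> grind
  rw [hpe] at hp
  have hperp : B b (z + ψ w • b) = 0 := by
    rw [B_swap halt]; simp [halt, hzW.2]
  have hind : ∀ m : F, b ≠ m • (z + ψ w • b) := fun l e => by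
    have := congrArg (fun x => B x a) e
    simp only [map_add, map_smul, LinearMap.add_apply, LinearMap.smul_apply, smul_eq_mul, hzW.1, hba,
      mul_one, zero_add] at this
    have h2 : l • z = 0 := by
      have e' := e
      rw [smul_add, smul_smul, ← this, one_smul] at e'
      exact add_eq_right.1 e'.symm
    rcases smul_eq_zero.1 h2 with hl | hl
    · simp [hl] at this
    · exact hz0 hl
  have hmem : B (m • (z + ψ w • b)) b = 0 := by rw [B_swap halt, map_smul, hperp, smul_zero]
  have h1 := h.hypb.mem _ hmem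
  have h2 := h.hyp.perp_zero h.noA h.big h.pb hp hperp hind h1
  rw [h2, smul_add, smul_smul] at h1
  exact h.zero_param (hzW.smul m).2 ((InL.shift _).1 h1)

/-- The zero set is closed under scalars. -/
theorem Frame.zero_cone (h : Frame B L a b φ ψ) {w : ι → F} (hw : InW B a b w) (h0 : ψ w = 0) (m : F) :
    ψ (m • w) = 0 := by
  rcases eq_or_ne w 0 with rfl | hw0
  · rw [smul_zero, h0]
  obtain ⟨v, hva, hvb, hvw⟩ := exists_dual_perp h.hyp.alt h.hyp.nd h.hab hw0 hw.1 hw.2
  have := h.line_zero ⟨hva, hvb⟩ hw (by rw [h0, mul_zero, zero_add, hvw]) m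
  rwa [h0, zero_smul, add_zero] at this

theorem Frame.identity (h : Frame B L a b φ ψ) {v w : ι → F} (hv : InW B a b v) (hw : InW B a b w)
    (he : φ v * ψ w + B v w = 1) : ψ (ψ w • v) = ψ w * ψ w * φ v := by
  have h1 := h.line_zero hv hw he 1
  rw [one_smul, h.hypb.add _ _ hw.2 (hv.smul _).2, map_smul, LinearMap.smul_apply, smul_eq_mul] at h1
  linear_combination h1 - ψ w * he +
    (-(ψ w)) * CharTwo.two_eq_zero (R := F)

theorem exists_pair_in (h : Frame B L a b φ ψ) (h6 : 6 ≤ Fintype.card ι) {v w : ι → F} (hv : InW B a b v)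
    (hw : InW B a b w) (hvw : B v w = 1) :
    ∃ u u', InW B a b u ∧ InW B a b u' ∧ B v u = 0 ∧ B w u = 0 ∧ B v u' = 0 ∧ B w u' = 0 ∧ B u u' = 1 := by
  have halt := h.hyp.alt
  have hwv : B w v = 1 := by rw [B_swap halt]; exact hvw
  -- project a pair perpendicular to `a` and `b`
  obtain ⟨x, hx0, hx⟩ : ∃ x, x ≠ 0 ∧ InW B a b x ∧ B v x = 0 ∧ B w x = 0 := by
    by_contra hcon
    push Not at hcon
    let T : (ι → F) →ₗ[F] (Fin 4 → F) := LinearMap.pi ![B a, B b, B v, B w]
    have hT : Function.Injective T := (injective_iff_map_eq_zero T).2 fun x hx => by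
      by_contra hne
      have e0 : B a x = 0 := congrFun hx 0
      have e1 : B b x = 0 := congrFun hx 1
      have e2 : B v x = 0 := congrFun hx 2
      have e3 : B w x = 0 := congrFun hx 3
      exact hcon x hne ⟨by rw [B_swap halt]; exact e0, by rw [B_swap halt]; exact e1⟩ e2 e3
    have := LinearMap.finrank_le_finrank_of_injective hT
    rw [Module.finrank_pi, Module.finrank_pi, Fintype.card_fin] at this
    omega
  obtain ⟨y, hya, hyb, hyx⟩ := exists_dual_perp halt h.hyp.nd h.hab hx0 hx.1.1 hx.1.2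
  refine ⟨x, y + B w y • v + B v y • w, hx.1, (InW.add ⟨hya, hyb⟩ (hv.smul _)).add (hw.smul _), hx.2.1,
    hx.2.2, ?_, ?_, ?_⟩
  · simp only [map_add, map_smul, halt, hvw, smul_eq_mul, mul_zero, mul_one, add_zero]
    exact CharTwo.add_self_eq_zero _
  · simp only [map_add, map_smul, halt, hwv, smul_eq_mul, mul_zero, mul_one, add_zero]
    exact CharTwo.add_self_eq_zero _
  · simp [B_swap halt x v, B_swap halt x w, hx.2.1, hx.2.2, B_swap halt x y, hyx]

/-- The two parameter functions vanish on the same lines. -/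
theorem Frame.zero_sub (h : Frame B L a b φ ψ) {v : ι → F} (hv : InW B a b v) (h0 : φ v = 0) : ψ v = 0 := by
  have halt := h.hyp.alt
  by_contra hne
  have hv0 : v ≠ 0 := fun e => hne (by rw [e, h.hypb.phi_zero])
  have off : ∀ w, InW B a b w → B v w ≠ 0 → ψ w = 0 := by
    intro w hw hf
    by_contra hs
    have h1 : φ ((B v w)⁻¹ • v) = 0 := h.symm.zero_cone hv.symm h0 _
    have h2 := h.identity (hv.smul (B v w)⁻¹) hw (by rw [h1, zero_mul, zero_add]; simp [hf])
    rw [h1, mul_zero, smul_smul] at h2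
    have h3 := h.zero_cone (hv.smul _) h2 (ψ w * (B v w)⁻¹)⁻¹
    rw [smul_smul, inv_mul_cancel₀ (mul_ne_zero hs (inv_ne_zero hf)), one_smul] at h3
    exact hne h3
  obtain ⟨w, hwa, hwb, hwv⟩ := exists_dual_perp halt h.hyp.nd h.hab hv0 hv.1 hv.2
  have hw : InW B a b w := ⟨hwa, hwb⟩
  have hvw : B v w = 1 := by rw [B_swap halt]; exact hwv
  have line : ∀ t : F, t ≠ 0 → ψ v = t := fun t ht => by
    have h1 := off (v + t • w) (hv.add (hw.smul t)) (by simp [halt, hvw, ht])
    rw [h.hypb.add _ _ hv.2 (hw.smul t).2, off (t • w) (hw.smul t) (by simp [hvw, ht])] at h1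
    simp only [map_smul, LinearMap.smul_apply, smul_eq_mul, hwv, mul_one, add_zero] at h1
    linear_combination h1 - t * CharTwo.two_eq_zero (R := F)
  by_cases hz : ∃ z : F, z ≠ 0 ∧ z ≠ 1
  · obtain ⟨z, hz0, hz1⟩ := hz
    exact hz1 ((line z hz0).symm.trans (line 1 one_ne_zero))
  · obtain ⟨u, u', hu, hu', hvu, hwu, hvu', hwu', huu⟩ := exists_pair_in h (h.big.resolve_left hz) hv hw hvw
    have k : ∀ x, InW B a b x → B v x ≠ 0 → B v (x + u) ≠ 0 → ψ u + B u x = 0 := fun x hx h1 h2 => by
      have e := off (x + u) (hx.add hu) h2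
      rw [h.hypb.add _ _ hx.2 hu.2, off x hx h1] at e
      linear_combination e
    have k1 := k w hw (by simp [hvw]) (by simp [hvw, hvu])
    have k2 := k (w + u') (hw.add hu') (by simp [hvw, hvu']) (by simp [hvw, hvu, hvu'])
    rw [map_add, huu, B_swap halt u w, hwu] at k2
    rw [B_swap halt u w, hwu] at k1
    exact one_ne_zero (by linear_combination k2 - k1 : (1 : F) = 0)

/-- On every line both parameters are the same multiple of squaring. -/
theorem Frame.line (h : Frame B L a b φ ψ) {w : ι → F} (hw : InW B a b w) :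
    ψ w = φ w ∧ ∀ m : F, φ (m • w) = m * m * φ w := by
  have halt := h.hyp.alt
  by_cases h0 : φ w = 0
  · exact ⟨by rw [h0, h.zero_sub hw h0], fun m => by
      rw [h0, mul_zero]; exact h.symm.zero_cone hw.symm h0 m⟩
  let A : F →+ F :=
    { toFun := fun m => φ (m • w)
      map_zero' := by rw [zero_smul, h.hyp.phi_zero]
      map_add' := fun x y => by rw [add_smul, h.hyp.add _ _ (hw.smul x).1 (hw.smul y).1]; simp [halt] }
  let C : F →+ F :=
    { toFun := fun m => ψ (m • w)
      map_zero' := by rw [zero_smul, h.hypb.phi_zero]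
      map_add' := fun x y => by rw [add_smul, h.hypb.add _ _ (hw.smul x).2 (hw.smul y).2]; simp [halt] }
  have hψ0 : ψ w ≠ 0 := fun e => h0 (h.symm.zero_sub hw.symm e)
  have hA : Function.Injective A := (injective_iff_map_eq_zero A).2 fun m hm => by
    by_contra hm0
    have := h.symm.zero_cone (hw.smul m).symm hm m⁻¹
    rw [smul_smul, inv_mul_cancel₀ hm0, one_smul] at this
    exact h0 this
  have hC : Function.Injective C := (injective_iff_map_eq_zero C).2 fun m hm => by
    by_contra hm0
    have := h.zero_cone (hw.smul m) hm m⁻¹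
    rw [smul_smul, inv_mul_cancel₀ hm0, one_smul] at this
    exact hψ0 this
  have rel : ∀ x : F, x ≠ 0 → A (x / C x) = (C x)⁻¹ := by
    intro x hx
    have hCx : C x ≠ 0 := fun e => hx (hC (e.trans (map_zero C).symm))
    obtain ⟨μ, hμ⟩ := Finite.injective_iff_surjective.1 hA (C x)⁻¹
    have h1 := h.line_zero (hw.smul μ) (hw.smul x) (by
      rw [show φ (μ • w) = (C x)⁻¹ from hμ, show ψ (x • w) = C x from rfl, inv_mul_cancel₀ hCx]
      simp [halt]) 1
    rw [one_smul, smul_smul, ← add_smul] at h1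
    have h2 : x + C x * μ = 0 := hC (h1.trans (map_zero C).symm)
    have h3 : μ = x / C x := by
      field_simp
      linear_combination h2 - x * CharTwo.two_eq_zero (R := F)
    rw [← h3]; exact hμ
  obtain ⟨k, hk⟩ := square_of_rel A C hA hC rel
  have e1 : φ w = k := by have := (hk 1).1; simpa [A] using this
  have e2 : ψ w = k := by have := (hk 1).2; simpa [C] using this
  exact ⟨e2.trans e1.symm, fun m => by rw [show φ (m • w) = A m from rfl, (hk m).1, e1]; ring⟩

/-- The projection to the perpendicular space of the frame. -/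
def proj (B : LinearMap.BilinForm F (ι → F)) (a b x : ι → F) : ι → F := x + B x b • a + B x a • b

/-- The quadratic form of the frame. -/
def qf (B : LinearMap.BilinForm F (ι → F)) (φ : (ι → F) → F) (a b : ι → F) (x : ι → F) : F :=
  B x b * B x a + φ (proj B a b x)

theorem Frame.proj_mem (h : Frame B L a b φ ψ) (x : ι → F) : InW B a b (proj B a b x) :=
  proj_perp h.hyp.alt h.hab x

theorem Frame.qf_smul (h : Frame B L a b φ ψ) (m : F) (x : ι → F) :
    qf B φ a b (m • x) = m * m * qf B φ a b x := by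
  have : proj B a b (m • x) = m • proj B a b x := by
    simp only [proj, map_smul, LinearMap.smul_apply, smul_eq_mul]; module
  rw [qf, qf, this, (h.line (h.proj_mem x)).2 m]
  simp only [map_smul, LinearMap.smul_apply, smul_eq_mul]; ring

theorem Frame.qf_add (h : Frame B L a b φ ψ) (x y : ι → F) :
    qf B φ a b (x + y) = qf B φ a b x + qf B φ a b y + B x y := by
  have halt := h.hyp.alt
  have e : proj B a b (x + y) = proj B a b x + proj B a b y := by
    simp only [proj, map_add, LinearMap.add_apply]; module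
  rw [qf, qf, qf, e, h.hyp.add _ _ (h.proj_mem x).1 (h.proj_mem y).1]
  simp only [proj, map_add, map_smul, LinearMap.add_apply, LinearMap.smul_apply, smul_eq_mul, halt, h.hab,
    B_swap halt b a, B_swap halt y x, B_swap halt a x, B_swap halt b x, mul_zero, mul_one, add_zero, zero_add]
  have := CharTwo.two_eq_zero (R := F)
  grind

theorem qf_left (halt : ∀ x, B x x = 0) (hab : B a b = 1) (hφ : φ 0 = 0) : qf B φ a b a = 0 := by
  have : proj B a b a = 0 := by
    simp only [proj, hab, halt, one_smul, zero_smul, add_zero]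
    funext i; exact CharTwo.add_self_eq_zero _
  rw [qf, this, hφ, halt, mul_zero, zero_add]

/-- A root element preserving the form. -/
theorem qf_sg {Q : (ι → F) → F} (hs : ∀ (m : F) x, Q (m • x) = m * m * Q x)
    (hadd : ∀ x y, Q (x + y) = Q x + Q y + B x y) {p v : ι → F} (hvp : B v p = 0) (hp : Q p = 0)
    (x : ι → F) : Q (sg B p v (Q v) x) = Q x := by
  simp only [sg, hadd, hs, hp, map_add, map_smul, LinearMap.add_apply, LinearMap.smul_apply, smul_eq_mul, hvp]
  have := CharTwo.two_eq_zero (R := F)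
  grind

/-- Every point is singular. -/
theorem Frame.singular (h : Frame B L a b φ ψ) {c : ι → F} (hc : Pnt L a c) : qf B φ a b c = 0 := by
  classical
  have halt := h.hyp.alt
  have hba : B b a = 1 := by rw [B_swap halt]; exact h.hab
  have hqa : qf B φ a b a = 0 := qf_left halt h.hab h.hyp.phi_zero
  have hqb : qf B φ a b b = 0 := by
    have : proj B a b b = 0 := by
      simp only [proj, hba, halt, one_smul, zero_smul, add_zero]
      funext i; exact CharTwo.add_self_eq_zero _
    rw [qf, this, h.hyp.phi_zero, halt, zero_mul, zero_add]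
  have hqW : ∀ v, InW B a b v → qf B φ a b v = φ v := fun v hv => by
    simp [qf, proj, hv.1, hv.2]
  -- points pairing with `b`
  have main : ∀ c, Pnt L a c → B c b ≠ 0 → qf B φ a b c = 0 := by
    intro c hc hcb
    by_contra hne
    obtain ⟨c', hc', hcb', hne'⟩ : ∃ c', Pnt L a c' ∧ B c' b = 1 ∧ qf B φ a b c' ≠ 0 :=
      ⟨(B c b)⁻¹ • c, hc.smul (inv_ne_zero hcb), by simp [hcb], by
        rw [h.qf_smul]; exact mul_ne_zero (mul_ne_zero (inv_ne_zero hcb) (inv_ne_zero hcb)) hne⟩
    obtain ⟨w, hwdef⟩ : ∃ w, w = proj B a b c' := ⟨_, rfl⟩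
    have hw : InW B a b w := hwdef ▸ h.proj_mem c'
    have hce : c' = a + w + B c' a • b := by
      rw [hwdef]
      simp only [proj, hcb', one_smul]
      funext i
      simp only [Pi.add_apply, Pi.smul_apply, smul_eq_mul]
      linear_combination (-(a i) - B c' a * b i) * CharTwo.two_eq_zero (R := F)
    obtain ⟨k, hk, hkx⟩ := h.hypb.mem w hw.2
    obtain ⟨δ, hδdef⟩ : ∃ δ, δ = B c' a + ψ w := ⟨_, rfl⟩
    have hkc : (k : Matrix ι ι F) *ᵥ c' = a + δ • b := by
      rw [hkx, hce, hδdef]
      simp only [sg, map_add, map_smul, LinearMap.add_apply, LinearMap.smul_apply, smul_eq_mul, h.hab, halt, hw.1,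
        hw.2, hba, B_swap halt a w, B_swap halt b w, mul_zero, mul_one, add_zero, zero_add, one_smul]
      funext i
      simp only [Pi.add_apply, Pi.smul_apply, smul_eq_mul]
      linear_combination (w i) * CharTwo.two_eq_zero (R := F)
    have hδ : δ ≠ 0 := by
      intro e
      refine hne' ?_
      rw [qf, hcb', ← hwdef, ← (h.line hw).1, one_mul, ← hδdef, e]
    have hd := hc'.map hk
    rw [hkc] at hd
    -- an element of `W` of parameter `1 / δ`
    obtain ⟨u, hu, hu0⟩ : ∃ u, InW B a b u ∧ φ u ≠ 0 := by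
      by_contra hall
      push Not at hall
      obtain ⟨w₁, hw₁0, hw₁⟩ := exists_perp_ne halt h.dim a b
      obtain ⟨y, hya, hyb, hyw⟩ := exists_dual_perp halt h.hyp.nd h.hab hw₁0 hw₁.1 hw₁.2
      have := h.hyp.add y w₁ hya hw₁.1
      rw [hall _ (InW.add ⟨hya, hyb⟩ hw₁), hall y ⟨hya, hyb⟩, hall w₁ hw₁, B_swap halt, hyw] at this
      simp at this
    haveI := Fintype.ofFinite F
    obtain ⟨t, ht⟩ := FiniteField.isSquare_of_char_two (ringChar.eq F 2) (δ⁻¹ / φ u)
    have hv : InW B a b (t • u) := hu.smul t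
    have hφv : φ (t • u) = δ⁻¹ := by rw [(h.line hu).2 t, ← ht, div_mul_cancel₀ _ hu0]
    obtain ⟨g, hg, hgx⟩ := h.hyp.mem _ hv.1
    have hp := hd.map hg
    rw [hgx, show sg B a (t • u) (φ (t • u)) (a + δ • b) = δ • (t • u) + δ • b by
      have := CharTwo.two_eq_zero (R := F)
      simp only [sg, hφv, map_add, map_smul, LinearMap.add_apply, LinearMap.smul_apply, smul_eq_mul, halt, hba,
        B_swap halt a u, B_swap halt b u, hu.1, hu.2, mul_zero, mul_one, add_zero, zero_add,
        inv_mul_cancel₀ hδ, one_smul]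
      funext i
      simp only [Pi.add_apply, Pi.smul_apply, smul_eq_mul]
      linear_combination (a i) * this] at hp
    have hperp : B b (δ • (t • u) + δ • b) = 0 := by simp [halt, B_swap halt b u, hu.2]
    have hind : ∀ m : F, b ≠ m • (δ • (t • u) + δ • b) := fun m e => by
      have h1 := congrArg (fun x => B x a) e
      simp [hba, hu.1] at h1
      have e' := e
      rw [smul_add, smul_smul m δ b, ← h1, one_smul] at e'
      have h4 := add_eq_right.1 e'.symm
      rw [smul_smul m δ (t • u), ← h1, one_smul] at h4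
      rcases (show (1 : F) = 0 ∨ t • u = 0 from Or.inr h4) with h2 | h2
      · exact one_ne_zero h2
      · rw [h2, h.hyp.phi_zero] at hφv
        exact inv_ne_zero hδ hφv.symm
    have hmem : B (δ • (t • u) + δ • b) b = 0 := by rw [B_swap halt]; exact hperp
    have h1 := h.hypb.mem _ hmem
    have h2 := h.hyp.perp_zero h.noA h.big h.pb hp hperp hind (m := 1) (by rw [one_smul]; exact h1)
    rw [h2] at h1
    have h3 := h.zero_param (hv.smul δ).2 ((InL.shift _).1 h1)
    rw [(h.line (hv.smul δ)).1, (h.line hv).2, hφv] at h3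
    exact hδ (by field_simp at h3; exact h3)
  by_cases hcb : B c b ≠ 0
  · exact main c hc hcb
  push Not at hcb
  -- move a point off the hyperplane of `b`
  obtain ⟨k, hk, hkQ, hkb⟩ : ∃ k ∈ L, (∀ x, qf B φ a b ((k : Matrix ι ι F) *ᵥ x) = qf B φ a b x) ∧
      B ((k : Matrix ι ι F) *ᵥ c) b ≠ 0 := by
    by_contra hcon
    push Not at hcon
    have hall : ∀ v, InW B a b v → B c v + φ v * B c a = 0 := fun v hv => by
      obtain ⟨g, hg, hgx⟩ := h.hyp.mem v hv.1
      have h1 := hcon g hg fun x => by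
        rw [hgx, ← hqW v hv]; exact qf_sg h.qf_smul h.qf_add hv.1 hqa x
      rw [hgx] at h1
      simpa [sg, hcb, hv.2, h.hab] using h1
    have hca : B c a = 0 := by
      by_contra hca
      have hlin : ∀ v v', InW B a b v → InW B a b v' → B v v' = 0 := fun v v' hv hv' => by
        have e1 := hall v hv
        have e2 := hall v' hv'
        have e3 := hall _ (hv.add hv')
        rw [map_add, h.hyp.add v v' hv.1 hv'.1, B_swap halt v' v] at e3
        exact (mul_eq_zero.1 (show B c a * B v v' = 0 by linear_combination e3 - e1 - e2)).resolve_left hca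
      obtain ⟨w₁, hw₁0, hw₁⟩ := exists_perp_ne halt h.dim a b
      obtain ⟨y, hya, hyb, hyw⟩ := exists_dual_perp halt h.hyp.nd h.hab hw₁0 hw₁.1 hw₁.2
      exact one_ne_zero (hyw.symm.trans (hlin y w₁ ⟨hya, hyb⟩ hw₁))
    refine h.hyp.pnt_ne hc (h.hyp.nd c fun y => ?_)
    have h1 := hall _ (h.proj_mem y)
    simp only [proj, map_add, map_smul, smul_eq_mul, hca, hcb, mul_zero, add_zero] at h1
    exact h1
  rw [← hkQ c]
  exact main _ (hc.map hk) hkb

/-- The group preserves the form of the frame. -/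
theorem Frame.preserve (h : Frame B L a b φ ψ) {g : GL ι F} (hg : g ∈ L) (x : ι → F) :
    qf B φ a b ((g : Matrix ι ι F) *ᵥ x) = qf B φ a b x := by
  have hx : x ∈ Submodule.span F {q | Pnt L a q} := by rw [h.hyp.span_top]; trivial
  induction hx using Submodule.span_induction with
  | mem q hq => rw [h.singular (Pnt.map hq hg), h.singular hq]
  | zero => rw [Matrix.mulVec_zero]
  | add u v _ _ hu hv => rw [Matrix.mulVec_add, h.qf_add, h.qf_add, hu, hv, h.hyp.iso g hg]
  | smul r u _ hu => rw [Matrix.mulVec_smul, h.qf_smul, h.qf_smul, hu]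

end Cfsg.Agent.Block.SpRootX
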