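import Cfsg.Agent.Lib.Block.SpRootX.Trans
import Cfsg.Prelude.Def_Solvable

/-!
A group of order `q ^ (2n-2)` without transvections in the unipotent radical of a point stabiliser is given by
root elements, one for each vector perpendicular to the point.
-/

set_option autoImplicit false
set_option linter.unusedSectionVars false

namespace Cfsg.Agent.Block.SpRootX

open Matrix Module Cfsg Cfsg.Agent.Classical Cfsg.Agent.Classical.MaxTv

variable {F : Type*} [Field F] [CharP F 2] [Fintype F] {n : ℕ}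

local notation "V" => (Fin n ⊕ Fin n → F)
local notation "Mn" => Matrix (Fin n ⊕ Fin n) (Fin n ⊕ Fin n) F
local notation "GLV" => GL (Fin n ⊕ Fin n) F

theorem sympB_alt (x : Fin n ⊕ Fin n → F) : sympB n F x x = 0 := by rw [sympB_apply, sympForm_self]

theorem sympB_nd (x : Fin n ⊕ Fin n → F) (h : ∀ y, sympB n F x y = 0) : x = 0 :=
  (sesq_sympForm (F := F) (m := n)).eq_zero x fun y => by
    rw [← sympB_apply, B_swap sympB_alt]; exact h y

theorem exists_partner_vec {a : Fin n ⊕ Fin n → F} (ha : a ≠ 0) : ∃ b, sympB n F a b = 1 := by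
  obtain ⟨y, hy⟩ : ∃ y, sympB n F a y ≠ 0 := by
    by_contra hcon
    push Not at hcon
    exact ha (sympB_nd a hcon)
  exact ⟨(sympB n F a y)⁻¹ • y, by rw [map_smul, smul_eq_mul, inv_mul_cancel₀ hy]⟩

/-- The largest normal two-subgroup of the stabiliser of `a` acts trivially on `a⊥ / a`. -/
theorem core_trivial {a : Fin n ⊕ Fin n → F} (ha : a ≠ 0) (hn : 2 ≤ n) (H : Subgroup GLV)
    (hH : ∀ g : GLV, g ∈ H ↔ (g ∈ spGL n F ∧ (g : Mn) *ᵥ a = a)) (x : H) (hx : x ∈ pCore 2 H)
    {y : Fin n ⊕ Fin n → F} (hy : sympB n F y a = 0) :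
    ∃ e : F, ((x : GLV) : Mn) *ᵥ y = y + e • a := by
  haveI : (pCore 2 H).Normal := by
    refine ⟨fun p hp g => ?_⟩
    have hle : pCore 2 H ≤ (pCore 2 H).comap (MulAut.conj g).toMonoidHom := sSup_le fun N hN p hp => by
      exact (le_sSup hN : N ≤ pCore 2 H) (hN.1.conj_mem p hp g)
    exact hle hp
  have hP : IsPGroup 2 (pCore 2 H) := by
    obtain ⟨S⟩ := (inferInstance : Nonempty (Sylow 2 H))
    have hle : pCore 2 H ≤ (S : Subgroup H) := sSup_le fun N hN => by
      haveI := hN.1
      obtain ⟨T, hT⟩ := hN.2.exists_le_sylow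
      obtain ⟨g, hg⟩ := MulAction.exists_smul_eq H T S
      intro p hp
      rw [← hg, Sylow.coe_subgroup_smul]
      exact ⟨g⁻¹ * p * g, hT (by simpa using hN.1.conj_mem p hp g⁻¹), by simp [MulAut.smul_def, mul_assoc]⟩
    exact S.isPGroup'.to_le hle
  let T : Submodule F V := LinearMap.ker ((sympB n F).flip a)
  have hT : ∀ z, z ∈ T ↔ sympB n F z a = 0 := fun z => Iff.rfl
  -- the vectors moved inside the line of `a`
  let S : Submodule F V :=
    { carrier := {z | sympB n F z a = 0 ∧ ∀ p ∈ pCore 2 H, ∃ e : F, ((p : GLV) : Mn) *ᵥ z = z + e • a}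
      zero_mem' := ⟨by simp, fun _ _ => ⟨0, by simp⟩⟩
      add_mem' := fun {u v} hu hv => ⟨by simp [hu.1, hv.1], fun p hp => by
        obtain ⟨e, he⟩ := hu.2 p hp
        obtain ⟨e', he'⟩ := hv.2 p hp
        exact ⟨e + e', by rw [Matrix.mulVec_add, he, he', add_smul]; abel⟩⟩
      smul_mem' := fun c u hu => ⟨by simp [hu.1], fun p hp => by
        obtain ⟨e, he⟩ := hu.2 p hp
        exact ⟨c * e, by rw [Matrix.mulVec_smul, he, smul_add, smul_smul]⟩⟩ }
  suffices hall : ∀ z, sympB n F z a = 0 → z ∈ S from (hall y hy).2 x hx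
  have hfix : ∀ g : H, ((g : GLV) : Mn) *ᵥ a = a := fun g => ((hH _).1 g.2).2
  have hinv : ∀ (g : H) z, z ∈ S → ((g : GLV) : Mn) *ᵥ z ∈ S := by
    intro g z hz
    refine ⟨?_, fun p hp => ?_⟩
    · have := mem_spGL.1 ((hH _).1 g.2).1 z a
      rw [hfix, ← sympB_apply, ← sympB_apply] at this
      rw [this]; exact hz.1
    · obtain ⟨e, he⟩ := hz.2 _ ((inferInstance : (pCore 2 H).Normal).conj_mem p hp g⁻¹)
      refine ⟨e, ?_⟩
      have h1 := congrArg (fun w => ((g : GLV) : Mn) *ᵥ w) he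
      simp only [Matrix.mulVec_mulVec, Matrix.mulVec_add, Matrix.mulVec_smul, hfix] at h1
      rw [← h1, inv_inv, Subgroup.coe_mul, Subgroup.coe_mul, InvMemClass.coe_inv, Units.val_mul, Units.val_mul,
        ← Matrix.mul_assoc, ← Matrix.mul_assoc, ← Units.val_mul, mul_inv_cancel, Units.val_one, Matrix.one_mul,
        Matrix.mulVec_mulVec]
  -- a fixed point of the two-group on the quotient
  let R : Submodule F T := (F ∙ a).comap T.subtype
  have hmapT : ∀ (p : pCore 2 H) z, z ∈ T → (((p : H) : GLV) : Mn) *ᵥ z ∈ T := fun p z hz => by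
    have := mem_spGL.1 ((hH _).1 (p : H).2).1 z a
    rw [hfix, ← sympB_apply, ← sympB_apply] at this
    exact (hT _).2 (this.trans hz)
  let act : pCore 2 H → T ⧸ R → T ⧸ R := fun p =>
    Submodule.mapQ R R (((((p : H) : GLV) : Mn).mulVecLin).restrict fun z hz => hmapT p z hz) (fun z hz => by
      obtain ⟨c, hc⟩ := Submodule.mem_span_singleton.1 hz
      refine Submodule.mem_span_singleton.2 ⟨c, ?_⟩
      show c • a = (((p : H) : GLV) : Mn) *ᵥ T.subtype z
      rw [← hc, Matrix.mulVec_smul, hfix])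
  letI : MulAction (pCore 2 H) (T ⧸ R) :=
    { smul := act
      one_smul := fun q => by
        obtain ⟨z, rfl⟩ := Submodule.mkQ_surjective R q
        show R.mkQ _ = R.mkQ z
        exact congrArg R.mkQ (Subtype.ext (by simp))
      mul_smul := fun p p' q => by
        obtain ⟨z, rfl⟩ := Submodule.mkQ_surjective R q
        show R.mkQ _ = R.mkQ _
        exact congrArg R.mkQ (Subtype.ext (by
          simp only [Subgroup.coe_mul, Units.val_mul]
          exact (Matrix.mulVec_mulVec (z : V) (((p : H) : GLV) : Mn) (((p' : H) : GLV) : Mn)).symm)) }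
  have hdim : 2 ∣ Nat.card (T ⧸ R) := by
    have h1 := Submodule.finrank_quotient_add_finrank R
    have h2 := LinearMap.finrank_range_add_finrank_ker ((sympB n F).flip a)
    have h3 := Submodule.finrank_le (LinearMap.range ((sympB n F).flip a))
    have h4 : finrank F R ≤ 1 := by
      have := LinearMap.finrank_le_finrank_of_injective (f := (T.subtype.comp R.subtype).codRestrict (F ∙ a)
        (fun z => z.2)) (fun u v e => Subtype.ext (Subtype.ext (congrArg (fun w : ↥(F ∙ a) => (w : V)) e)))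
      rwa [finrank_span_singleton ha] at this
    have h5 : finrank F T = finrank F (LinearMap.ker ((sympB n F).flip a)) := rfl
    rw [Module.finrank_self] at h3
    rw [Module.finrank_pi, Fintype.card_sum, Fintype.card_fin] at h2
    rw [Module.natCard_eq_pow_finrank (K := F)]
    refine dvd_pow ?_ (by show finrank F (T ⧸ R) ≠ 0; omega)
    haveI : Fact (Nat.Prime 2) := ⟨Nat.prime_two⟩
    obtain ⟨k, hk2, hk⟩ := FiniteField.card F 2
    rw [Nat.card_eq_fintype_card, hk]
    exact dvd_pow_self 2 k.pos.ne'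
  haveI : Fact (Nat.Prime 2) := ⟨Nat.prime_two⟩
  have hzero : (0 : T ⧸ R) ∈ MulAction.fixedPoints (pCore 2 H) (T ⧸ R) := fun p => map_zero _
  haveI : Finite (T ⧸ R) := Finite.of_surjective _ (Submodule.mkQ_surjective R)
  obtain ⟨q, hq, hq0⟩ := hP.exists_fixed_point_of_prime_dvd_card_of_fixed_point (T ⧸ R) hdim hzero
  obtain ⟨z₀, rfl⟩ := Submodule.mkQ_surjective R q
  have hz₀a : ∀ c : F, (z₀ : V) ≠ c • a := fun c e => hq0 (by
    symm
    rw [Submodule.mkQ_apply, Submodule.Quotient.mk_eq_zero]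
    exact Submodule.mem_span_singleton.2 ⟨c, e.symm⟩)
  have hz₀ : (z₀ : V) ∈ S := ⟨z₀.2, fun p hp => by
    have h1 := hq ⟨p, hp⟩
    rw [show (⟨p, hp⟩ : pCore 2 H) • R.mkQ z₀ = act ⟨p, hp⟩ (R.mkQ z₀) from rfl, Submodule.mkQ_apply] at h1
    simp only [act, Submodule.mapQ_apply] at h1
    obtain ⟨c, hc⟩ := Submodule.mem_span_singleton.1 ((Submodule.Quotient.eq R).1 h1)
    exact ⟨c, by
      rw [hc]
      simp [LinearMap.restrict_coe_apply]
      rfl⟩⟩
  -- symplectic transvections fixing `a` carry it everywhere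
  have step : ∀ u, sympB n F u a = 0 → sympB n F (z₀ : V) u ≠ 0 → u ∈ S := by
    intro u hu hne
    obtain ⟨g, hg, hgx⟩ := exists_sp_tv ((z₀ : V) + u) (sympB n F (z₀ : V) u)⁻¹
    have hgH : g ∈ H := (hH g).2 ⟨hg, by
      rw [hgx, ← sympB_apply, map_add, B_swap sympB_alt a, B_swap sympB_alt a u, hu, (hT _).1 z₀.2]; simp⟩
    have := hinv ⟨g, hgH⟩ _ hz₀
    rwa [show ((⟨g, hgH⟩ : H) : GLV) = g from rfl, hgx, ← sympB_apply, map_add, sympB_alt, zero_add,
      inv_mul_cancel₀ hne, one_smul, ← add_assoc, show (z₀ : V) + z₀ = 0 from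
        funext fun i => CharTwo.add_self_eq_zero _, zero_add] at this
  intro u hu
  by_cases hne : sympB n F (z₀ : V) u ≠ 0
  · exact step u hu hne
  push Not at hne
  obtain ⟨w, hw1, hw2⟩ := exists_sep sympB_alt sympB_nd hz₀a ha
  rw [B_swap sympB_alt w] at hw2
  have h1 := step (u + w) (by simp [hu, hw1]) (by simp [hne, hw2])
  have h2 := step w hw1 (by rw [hw2]; exact one_ne_zero)
  have h3 := S.add_mem h1 h2
  rwa [add_assoc, show w + w = 0 from funext fun i => CharTwo.add_self_eq_zero _, add_zero] at h3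

/-- Existence of the parameter function. -/
theorem exists_hyp {a : Fin n ⊕ Fin n → F} (ha : a ≠ 0) (hn : 2 ≤ n) (X L : Subgroup GLV) (hXG : X ≤ spGL n F)
    (hXO : ∀ H : Subgroup GLV, (∀ g : GLV, g ∈ H ↔ (g ∈ spGL n F ∧ (g : Mn) *ᵥ a = a)) →
      X ≤ (pCore 2 H).map H.subtype)
    (hcard : Nat.card X = Fintype.card F ^ (2 * n - 2)) (hntv : ∀ x ∈ X, ((x : Mn) - 1).rank ≠ 1)
    (hXL : X ≤ L) (hLG : L ≤ spGL n F)
    (hirr : ∀ W : Submodule F V, (∀ g ∈ L, ∀ w ∈ W, (g : Mn) *ᵥ w ∈ W) → W = ⊥ ∨ W = ⊤) :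
    ∃ φ, Hyp (sympB n F) L a φ := by
  classical
  have halt : ∀ x : V, sympB n F x x = 0 := sympB_alt
  obtain ⟨b, hab⟩ := exists_partner_vec ha
  have hba : sympB n F b a = 1 := by rw [B_swap halt]; exact hab
  let H : Subgroup GLV :=
    { carrier := {g | g ∈ spGL n F ∧ (g : Mn) *ᵥ a = a}
      one_mem' := ⟨one_mem _, by simp⟩
      mul_mem' := fun {g k} hg hk => ⟨mul_mem hg.1 hk.1, by
        rw [Units.val_mul, ← Matrix.mulVec_mulVec, hk.2, hg.2]⟩
      inv_mem' := fun {g} hg => ⟨inv_mem hg.1, by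
        conv_lhs => rw [← hg.2]
        rw [Matrix.mulVec_mulVec, ← Units.val_mul, inv_mul_cancel, Units.val_one, Matrix.one_mulVec]⟩ }
  have hH : ∀ g : GLV, g ∈ H ↔ (g ∈ spGL n F ∧ (g : Mn) *ᵥ a = a) := fun g => Iff.rfl
  -- the shape of the elements
  have shape : ∀ x ∈ X, ∃ v c, InW (sympB n F) a b v ∧ ∀ z, (x : Mn) *ᵥ z = sg (sympB n F) a v c z := by
    intro x hx
    obtain ⟨p, hp, hpx⟩ := hXO H hH hx
    subst hpx
    have hiso : ∀ u w, sympB n F (((p : GLV) : Mn) *ᵥ u) (((p : GLV) : Mn) *ᵥ w) = sympB n F u w :=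
      fun u w => by rw [sympB_apply, sympB_apply]; exact mem_spGL.1 p.2.1 u w
    obtain ⟨d, hd⟩ : ∃ d, d = ((p : GLV) : Mn) *ᵥ b + b := ⟨_, rfl⟩
    have hda : sympB n F d a = 0 := by
      rw [hd, map_add, LinearMap.add_apply]
      conv_lhs => arg 1; rw [← p.2.2, hiso]
      exact CharTwo.add_self_eq_zero _
    obtain ⟨v, hv⟩ : ∃ v, v = d + sympB n F d b • a := ⟨_, rfl⟩
    have hvW : InW (sympB n F) a b v := ⟨by rw [hv]; simp [hda, halt],
      by rw [hv]; simp [hab, CharTwo.add_self_eq_zero]⟩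
    refine ⟨v, sympB n F d b, hvW, fun z => ?_⟩
    obtain ⟨e, he⟩ := core_trivial ha hn H hH p hp (y := z + sympB n F z a • b) (by
      simp [hba, CharTwo.add_self_eq_zero])
    have hp' : ((p : GLV) : Mn) *ᵥ b = b + d := by
      rw [hd]; funext i; simp only [Pi.add_apply]; linear_combination (-(b i)) * CharTwo.two_eq_zero (R := F)
    have hee : e = sympB n F (z + sympB n F z a • b) v := by
      have h1 := hiso (z + sympB n F z a • b) b
      rw [he, hp'] at h1
      have hbv : sympB n F b d = sympB n F d b := B_swap halt b d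
      simp only [hv, map_add, map_smul, LinearMap.add_apply, LinearMap.smul_apply, smul_eq_mul, hab, hba,
        B_swap halt a d, hda, halt] at h1 ⊢
      grind
    have h2 : ((p : GLV) : Mn) *ᵥ z = (z + sympB n F z a • b + e • a) + sympB n F z a • (b + d) := by
      rw [← he, ← hp', Matrix.mulVec_add, Matrix.mulVec_smul, add_assoc,
        show sympB n F z a • ((p : GLV) : Mn) *ᵥ b + sympB n F z a • ((p : GLV) : Mn) *ᵥ b = 0 from
          funext fun i => CharTwo.add_self_eq_zero _, add_zero]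
    rw [show H.subtype p = (p : GLV) from rfl, h2, hee, sg, hv]
    simp only [map_add, map_smul, LinearMap.add_apply, LinearMap.smul_apply, smul_eq_mul,
      B_swap halt b d, hba]
    have := CharTwo.two_eq_zero (R := F)
    match_scalars <;> grind
  have hone : ∀ x ∈ X, ∀ c, (∀ z, (x : Mn) *ᵥ z = sg (sympB n F) a 0 c z) → c = 0 := by
    intro x hx c hxz
    by_contra hc
    refine hntv x hx ?_
    have hr : LinearMap.range ((x : Mn) - 1).mulVecLin = F ∙ a := by
      refine le_antisymm ?_ ?_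
      · rintro _ ⟨z, rfl⟩
        rw [Matrix.mulVecLin_apply, Matrix.sub_mulVec, Matrix.one_mulVec, hxz, sg_zero, add_sub_cancel_left]
        exact Submodule.smul_mem _ _ (Submodule.mem_span_singleton_self a)
      · rw [Submodule.span_singleton_le_iff_mem]
        refine ⟨c⁻¹ • b, ?_⟩
        rw [Matrix.mulVecLin_apply, Matrix.sub_mulVec, Matrix.one_mulVec, hxz, sg_zero, add_sub_cancel_left,
          map_smul, LinearMap.smul_apply, smul_eq_mul, hba, mul_one, mul_inv_cancel₀ hc, one_smul]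
    rw [Matrix.rank, hr, finrank_span_singleton ha]
  -- every vector perpendicular to the pair occurs
  choose vv cc hvv hxx using fun x : X => shape x x.2
  have inj : Function.Injective fun x : X => (⟨vv x, hvv x⟩ : {v // InW (sympB n F) a b v}) := by
    intro x y hxy
    have he : vv x = vv y := congrArg Subtype.val hxy
    have hy : (vv y) + vv y = 0 := funext fun i => CharTwo.add_self_eq_zero _
    have hc : cc x = cc y := by
      have h1 : ∀ z, (((x * y : X) : GLV) : Mn) *ᵥ z = sg (sympB n F) a 0 (cc x + cc y) z := fun z => by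
        rw [Subgroup.coe_mul, Units.val_mul, ← Matrix.mulVec_mulVec, hxx y, hxx x,
          sg_comp halt (hvv x).1 (hvv y).1, he, hy, halt, add_zero]
      exact sub_eq_zero.1 (by rw [CharTwo.sub_eq_add]; exact hone _ (x * y).2 _ h1)
    refine Subtype.ext (Units.ext (Matrix.ext_iff_mulVec.2 fun z => ?_))
    rw [hxx x, hxx y, he, hc]
  have hcardW : Nat.card {v // InW (sympB n F) a b v} = Nat.card X := by
    let T : V →ₗ[F] F × F := LinearMap.prod ((sympB n F).flip a) ((sympB n F).flip b)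
    have hT : LinearMap.range T = ⊤ := LinearMap.range_eq_top.2 fun st => ⟨st.1 • b + st.2 • a, by
      ext <;> simp [T, hba, hab, halt]⟩
    have h1 := LinearMap.finrank_range_add_finrank_ker T
    rw [hT, finrank_top, Module.finrank_prod, Module.finrank_self, Module.finrank_pi, Fintype.card_sum,
      Fintype.card_fin] at h1
    have e : {v // InW (sympB n F) a b v} ≃ LinearMap.ker T := Equiv.subtypeEquivRight fun v => by
      simp [T, InW, LinearMap.mem_ker, Prod.ext_iff]
    rw [Nat.card_congr e, Module.natCard_eq_pow_finrank (K := F), hcard, Nat.card_eq_fintype_card]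
    congr 1
    omega
  have surj : Function.Surjective fun x : X => (⟨vv x, hvv x⟩ : {v // InW (sympB n F) a b v}) :=
    (inj.bijective_of_nat_card_le hcardW.le).2
  choose pre hpre using surj
  obtain ⟨φ, hφ⟩ : ∃ φ : V → F, ∀ v, φ v = cc (pre ⟨proj (sympB n F) a b v, proj_perp halt hab v⟩) :=
    ⟨_, fun v => rfl⟩
  have mem : ∀ v, sympB n F v a = 0 → InL (sympB n F) X a v (φ v) := by
    intro v hv
    obtain ⟨x, hx⟩ : ∃ x, x = pre ⟨proj (sympB n F) a b v, proj_perp halt hab v⟩ := ⟨_, rfl⟩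
    have h1 : vv x = proj (sympB n F) a b v := by rw [hx]; exact congrArg Subtype.val (hpre _)
    refine ⟨x, x.2, fun z => ?_⟩
    rw [hxx x, h1, hφ, ← hx, proj, hv, zero_smul, add_zero, sg_shift]
  refine ⟨φ, sympB_alt, sympB_nd, fun g hg u w => by
    rw [sympB_apply, sympB_apply]; exact mem_spGL.1 (hLG hg) u w, hirr, ha, fun v hv => ?_, fun v w hv hw => ?_⟩
  · obtain ⟨g, hg, hgx⟩ := mem v hv
    exact ⟨g, hXL hg, hgx⟩
  · have hvw : sympB n F (v + w) a = 0 := by simp [hv, hw]
    obtain ⟨g, hg, hgx⟩ := (mem _ hvw).diff halt hvw ((mem v hv).mul halt hv hw (mem w hw))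
    exact sub_eq_zero.1 (by rw [CharTwo.sub_eq_add]; exact hone g hg _ hgx)

end Cfsg.Agent.Block.SpRootX
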