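import Cfsg.Agent.Lib.Block.SpRootX.Quad
import Cfsg.Agent.Lib.Classical.MaxSympWreath

/-!
A transvection at a point gives the whole symplectic group.
-/

set_option autoImplicit false
set_option linter.unusedSectionVars false

namespace Cfsg.Agent.Block.SpRootX

open Matrix Module Cfsg Cfsg.Agent.Classical Cfsg.Agent.Classical.MaxTv

variable {F : Type*} [Field F] [CharP F 2] [Finite F] {n : ℕ}
  {L : Subgroup (GL (Fin n ⊕ Fin n) F)} {a : Fin n ⊕ Fin n → F} {φ : (Fin n ⊕ Fin n → F) → F}

theorem sp_le (h : Hyp (sympB n F) L a φ) (hn : 2 ≤ n) {γ : F} (hγ0 : γ ≠ 0)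
    (hγ : InL (sympB n F) L a 0 γ) : spGL n F ≤ L := by
  have halt := h.alt
  have hs : Sesq (RingEquiv.refl F) (sympForm n F) := sesq_sympForm
  have hcard : Fintype.card (Fin n ⊕ Fin n) = 2 * n := by
    rw [Fintype.card_sum, Fintype.card_fin]; omega
  have hsp : ∀ g ∈ L, g ∈ spGL n F := fun g hg => mem_spGL.2 fun x y => by
    rw [← sympB_apply, ← sympB_apply]; exact h.iso g hg x y
  obtain ⟨b, hb, hab⟩ := h.exists_partner
  obtain ⟨w, hw0, hwa, hwb⟩ := exists_perp_ne halt (by rw [hcard]; omega) a b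
  have hC := h.all_transvections hb hab hw0 hwa hwb hγ0 hγ
  have ha : Pt L a := fun c => by
    obtain ⟨g, hg, hgx⟩ := hC c
    exact ⟨g, hg, fun x => by rw [hgx, sg_zero, fn_dot hs, sympForm_smul_right, sympB_apply]⟩
  have hP : ∀ q, Pnt L a q → Pt L q := fun q hq => by
    obtain ⟨g, hg, l, -, rfl⟩ := hq
    exact (ha.map hg (hsp g hg)).smul l
  have hba : sympB n F b a = 1 := by rw [B_swap halt]; exact hab
  have off : ∀ x, sympB n F x a ≠ 0 → Pt L x := by
    intro x hx
    obtain ⟨v, hv⟩ : ∃ v, v = proj (sympB n F) a b ((sympB n F x a)⁻¹ • x) := ⟨_, rfl⟩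
    have hvW : InW (sympB n F) a b v := hv ▸ proj_perp halt hab _
    have hbv : sympB n F b v = 0 := by rw [B_swap halt]; exact hvW.2
    have h1 := hP _ (h.pnt_move hb hba hbv (h.mem v hvW.1))
    -- adjust the coefficient of `a`
    have shift : ∀ y (e : F), Pt L y → sympB n F y a = 1 → Pt L (y + e • a) := fun y e hy hya => by
      rcases eq_or_ne e 0 with rfl | he
      · rwa [zero_smul, add_zero]
      · exact hy.add (ha.smul e) (by rw [← sympB_apply]; simp [hya, he])
    have h2 := shift _ ((sympB n F ((sympB n F x a)⁻¹ • x)) b + φ v) h1 (by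
      simp [hba, hvW.1, halt])
    have h3 := h2.smul (sympB n F x a)
    convert h3 using 1
    rw [hv]
    simp only [proj, map_smul, LinearMap.smul_apply, smul_eq_mul]
    funext i
    simp only [Pi.add_apply, Pi.smul_apply, smul_eq_mul]
    rw [inv_mul_cancel₀ hx]
    field_simp
    have := CharTwo.two_eq_zero (R := F)
    grind
  refine spGL_le fun x => ?_
  by_cases hx : sympB n F x a ≠ 0
  · exact off x hx
  push Not at hx
  rcases eq_or_ne x 0 with rfl | hx0
  · exact Pt.zero
  obtain ⟨z, hz1, hz2⟩ : ∃ z, sympB n F z a ≠ 0 ∧ sympB n F x z ≠ 0 := by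
    obtain ⟨y, hy⟩ : ∃ y, sympB n F x y ≠ 0 := by
      by_contra hcon
      push Not at hcon
      exact hx0 (h.nd x hcon)
    by_cases h1 : sympB n F y a ≠ 0
    · exact ⟨y, h1, hy⟩
    by_cases h2 : sympB n F x b ≠ 0
    · exact ⟨b, by rw [hba]; exact one_ne_zero, h2⟩
    push Not at h1 h2
    exact ⟨y + b, by simp [h1, hba], by simp [hy, h2]⟩
  have h1 := (off (x + z) (by simp [hx, hz1])).add (off z hz1)
    (by rw [← sympB_apply]; simp [halt, hz2])
  rwa [add_assoc, show z + z = 0 from funext fun i => CharTwo.add_self_eq_zero _, add_zero] at h1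

end Cfsg.Agent.Block.SpRootX
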